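import Cfsg.Agent.Mrg.Omega.KL.Q.Def
import Cfsg.Agent.Mrg.Omega.ML.Ex.TwoOdd
import Cfsg.Agent.Mrg.Omega.NO3S.EMany.LowExt


/-!
# (Gq) of #22723 (1)-(4), the core: the machine of helper566 and `O(H) = 1` by the pairing (helper461)

* `Geo T X Y` : the geometric part of 49's `PreG` (no exact group);  `Geo.map`, `Geo.sub` : quotients by groups which
  centralise `M`, subgroups over `T`;
* **`Geo.exists_sysT`** : `Geo`, an exact atom `A` with `A ≤ O₂(R)` for `T ≤ R < H`, `A ≰ O₂(H)` (`LB`), `H` moves `X` and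
  every `v ∈ Y#`  ⟹  `SysT` for a section of `(H, M)`.
-/

set_option autoImplicit false

namespace Cfsg.Agent.Omega.KL.Q.OddG

open Subgroup Cfsg Cfsg.Agent.ZN Cfsg.Agent.ClassTwoFusion.Quad Cfsg.Agent.Omega.ML.MinFrame
open Cfsg.Agent.Omega.ML.Final
open Cfsg.Agent.Omega.KL.Q.Def (nrm mem_nrm)
open Cfsg.Agent.Omega.KL.Q.Tools Cfsg.Agent.Omega.KL.Q.Pre
open Cfsg.Agent.Omega.KL.Quo (exists_minPar norm_lift)
open Cfsg.Agent.Omega.NO3S.EMany.Low
open Cfsg.Agent.Omega.ML.Ex.Two (SysT)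
open Cfsg.Agent.MinSimple.MinParabolic (IsMinPar le_of_forall)

universe u v

/-- the geometric part of the input -/
structure Geo {H : Type u} [Group H] {M : Type v} [Group M] [MulDistribMulAction H M] (T : Subgroup H)
    (X Y : Subgroup M) : Prop where
  sq : ∀ m : M, m * m = 1
  two : IsPGroup 2 T
  syl : ¬ 2 ∣ T.index
  Y1 : Y ≠ ⊥
  nX : normalizer (T : Set H) ≤ nrm H X
  nY : normalizer (T : Set H) ≤ nrm H Y
  tY : T ≤ fxr H Y
  sX : ∀ m ∈ X, m ≠ 1 → MulAction.stabilizer H m ≤ nrm H X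
  sY : ∀ v ∈ Y, v ≠ 1 → MulAction.stabilizer H v ≤ nrm H Y
  u1 : ∀ P : Subgroup H, IsMinPar T P → ∀ m ∈ X, (∀ t ∈ T, t • m = m) → (∃ p ∈ P, p • m ≠ m) → P ≤ fxr H Y
  u2 : ∀ P : Subgroup H, IsMinPar T P → ¬ P ≤ nrm H X →
    ∃ V : Subgroup M, X ≤ V ∧ P ≤ nrm H V ∧ ∀ v ∈ V, ∀ w ∈ V, v ≠ 1 → w ≠ 1 → ∃ p ∈ P, p • v = w
  ex : ∃ m ∈ X, m ≠ 1 ∧ ∀ t ∈ T, t • m = m
  pair : ∀ ζ ∈ normalizer (T : Set H), ∀ O : Set M, (∀ w ∈ O, ∃ g : H, ∃ m ∈ X, g • m = w) → Y ≤ closure O →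
    (∀ t ∈ T, ∀ w ∈ O, (ζ * t * ζ⁻¹ * t⁻¹) • w = w) → ζ ∈ fxr H Y

namespace Geo

section map

variable {C : Type u} [Group C] [Finite C] {M : Type v} [Group M] [MulDistribMulAction C M]
  {H : Type u} [Group H] [MulDistribMulAction H M] {T : Subgroup C} {X Y : Subgroup M}
  {π : C →* H}

/-- quotients by a group which centralises `M` -/
theorem map (hπ : Function.Surjective π) (he : ∀ (g : C) (v : M), π g • v = g • v) (h : Geo T X Y) :
    Geo (T.map π) X Y where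
  sq := h.sq
  two := h.two.map π
  syl := fun h2 => h.syl (h2.trans (index_map_dvd T hπ))
  Y1 := h.Y1
  nX := by
    intro g hg
    obtain ⟨t, ht, n, hn, rfl⟩ := norm_lift π hπ h.two h.syl hg
    rw [← nrm_map hπ he]
    exact mem_map_of_mem π (mul_mem (h.nX (le_normalizer ht)) (h.nX hn))
  nY := by
    intro g hg
    obtain ⟨t, ht, n, hn, rfl⟩ := norm_lift π hπ h.two h.syl hg
    rw [← nrm_map hπ he]
    exact mem_map_of_mem π (mul_mem (h.nY (le_normalizer ht)) (h.nY hn))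
  tY := by
    rw [← fxr_map hπ he]
    exact map_mono h.tY
  sX := by
    intro m hm hm1 g hg
    obtain ⟨c, rfl⟩ := hπ g
    rw [← nrm_map hπ he]
    exact mem_map_of_mem π (h.sX m hm hm1 (by rw [MulAction.mem_stabilizer_iff] at hg ⊢; rwa [he] at hg))
  sY := by
    intro m hm hm1 g hg
    obtain ⟨c, rfl⟩ := hπ g
    rw [← nrm_map hπ he]
    exact mem_map_of_mem π (h.sY m hm hm1 (by rw [MulAction.mem_stabilizer_iff] at hg ⊢; rwa [he] at hg))
  u1 := by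
    intro P hP m hm htm hmv
    obtain ⟨R, hR, rfl⟩ := exists_minPar π hπ hP
    rw [← fxr_map hπ he]
    refine map_mono (h.u1 R hR m hm (fun t ht => by rw [← he]; exact htm _ (mem_map_of_mem π ht)) ?_)
    obtain ⟨_, ⟨r, hr, rfl⟩, hrm⟩ := hmv
    exact ⟨r, hr, by rwa [he] at hrm⟩
  u2 := by
    intro P hP hmv
    obtain ⟨R, hR, rfl⟩ := exists_minPar π hπ hP
    obtain ⟨V, h1, h2, h3⟩ := h.u2 R hR (fun h4 => hmv (by
      rw [← nrm_map hπ he]
      exact map_mono h4))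
    refine ⟨V, h1, ?_, ?_⟩
    · rw [← nrm_map hπ he]
      exact map_mono h2
    · intro v hv w hw hv1 hw1
      obtain ⟨p, hp, hpw⟩ := h3 v hv w hw hv1 hw1
      exact ⟨π p, mem_map_of_mem π hp, by rw [he]; exact hpw⟩
  ex := by
    obtain ⟨m, hm, hm1, htm⟩ := h.ex
    refine ⟨m, hm, hm1, ?_⟩
    rintro _ ⟨t, ht, rfl⟩
    rw [he, htm t ht]
  pair := pair_map hπ he h.two h.syl h.pair

end map

section sub

variable {C : Type u} [Group C] {M : Type v} [Group M] [MulDistribMulAction C M] {T : Subgroup C} {X Y : Subgroup M}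

theorem nrm_sub (R : Subgroup C) {g : R} : g ∈ nrm R X ↔ (g : C) ∈ nrm C X := Iff.rfl

theorem norm_sub {R : Subgroup C} (hTR : T ≤ R) {g : R} (hg : g ∈ normalizer (T.subgroupOf R : Set R)) :
    (g : C) ∈ normalizer (T : Set C) := by
  rw [mem_normalizer_iff] at hg ⊢
  intro t
  constructor
  · intro ht
    exact (hg ⟨t, hTR ht⟩).1 ht
  · intro ht
    have h1 : t ∈ R := by
      have h2 := R.mul_mem (R.mul_mem (R.inv_mem g.2) (hTR ht)) g.2
      have e : (g : C)⁻¹ * (g * t * (g : C)⁻¹) * g = t := by group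
      rwa [e] at h2
    exact (hg ⟨t, h1⟩).2 ht

/-- subgroups over `T` -/
theorem sub (h : Geo T X Y) {R : Subgroup C} (hTR : T ≤ R) : Geo (T.subgroupOf R) X Y where
  sq := h.sq
  two := h.two.comap_subtype
  syl := fun h2 => h.syl (h2.trans (relIndex_dvd_index_of_le hTR))
  Y1 := h.Y1
  nX := fun g hg => (nrm_sub R).2 (h.nX (norm_sub hTR hg))
  nY := fun g hg => (nrm_sub R).2 (h.nY (norm_sub hTR hg))
  tY := fun t ht m hm => h.tY (mem_subgroupOf.1 ht) m hm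
  sX := fun m hm hm1 g hg => (nrm_sub R).2 (h.sX m hm hm1 (by
    rw [MulAction.mem_stabilizer_iff] at hg ⊢; exact hg))
  sY := fun m hm hm1 g hg => (nrm_sub R).2 (h.sY m hm hm1 (by
    rw [MulAction.mem_stabilizer_iff] at hg ⊢; exact hg))
  u1 := by
    rintro P hP m hm htm ⟨p, hp, hpm⟩ q hq w hw
    exact h.u1 _ (KL.GenTool.minPar_map_subtype hTR hP) m hm (fun t ht => htm ⟨t, hTR ht⟩ (mem_subgroupOf.2 ht))
      ⟨p, ⟨p, hp, rfl⟩, hpm⟩ (x := (q : C)) ⟨q, hq, rfl⟩ w hw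
  u2 := by
    intro P hP hmv
    obtain ⟨V, h1, h2, h3⟩ := h.u2 _ (KL.GenTool.minPar_map_subtype hTR hP)
      (fun h4 => hmv fun p hp => (nrm_sub R).2 (h4 ⟨p, hp, rfl⟩))
    refine ⟨V, h1, fun p hp => (nrm_sub R).2 (h2 ⟨p, hp, rfl⟩), ?_⟩
    intro v hv w hw hv1 hw1
    obtain ⟨_, ⟨p, hp, rfl⟩, hpw⟩ := h3 v hv w hw hv1 hw1
    exact ⟨p, hp, hpw⟩
  ex := by
    obtain ⟨m, hm, hm1, htm⟩ := h.ex
    exact ⟨m, hm, hm1, fun t ht => htm _ (mem_subgroupOf.1 ht)⟩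
  pair := by
    intro ζ hζ O hO hY hc w hw
    refine h.pair ζ (norm_sub hTR hζ) O ?_ hY ?_ w hw
    · intro w hw
      obtain ⟨g, m, hm, hgm⟩ := hO w hw
      exact ⟨g, m, hm, hgm⟩
    · intro t ht w hw
      exact hc ⟨t, hTR ht⟩ (mem_subgroupOf.2 ht) w hw

end sub

/-! ### The core -/

variable {H : Type u} [Group H] [Finite H] {M : Type v} [Group M] [Finite M] [MulDistribMulAction H M]
  {T A : Subgroup H} {X Y : Subgroup M}

/-- **(1)-(4) of (Gq)** -/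
theorem exists_sysT (h : Geo T X Y) (lb : LB H M T A) (hM : MLK.{u, v}) (hX : ¬ (⊤ : Subgroup H) ≤ nrm H X)
    (hY : ∀ v ∈ Y, v ≠ 1 → ¬ ∀ g : H, g • v = v) :
    ∃ (H' : Type u) (_ : Group H') (_ : Finite H') (N : Type v) (_ : Group N) (_ : Finite N)
      (_ : MulDistribMulAction H' N) (T' A' : Subgroup H') (x' y' : N), SysT H' N T' A' x' y' := by
  -- a mover
  obtain ⟨P, hP, hPX⟩ : ∃ P : Subgroup H, IsMinPar T P ∧ ¬ P ≤ nrm H X := by
    by_contra hc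
    push Not at hc
    exact hX (le_of_forall (S := T) le_top (fun g hg => h.nX hg.2) fun P hP _ => hc P hP)
  obtain ⟨m, hm, hm1, tm⟩ := h.ex
  obtain ⟨p, hp, hpm⟩ : ∃ p ∈ P, p • m ≠ m := by
    by_contra hc
    push Not at hc
    exact hPX fun p hp => h.sX m hm hm1 (MulAction.mem_stabilizer_iff.2 (hc p hp))
  have hPY := h.u1 P hP m hm tm ⟨p, hp, hpm⟩
  obtain ⟨⟨w, hw⟩, hw1'⟩ := (Subgroup.ne_bot_iff_exists_ne_one).1 h.Y1
  have hw1 : w ≠ 1 := fun h1 => hw1' (Subtype.ext h1)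
  have tw : ∀ v ∈ Y, ∀ t ∈ T, t • v = v := fun v hv t ht => h.tY ht v hv
  have hmH : ¬ ∀ g : H, g • m = m := fun hc => hpm (hc p)
  obtain ⟨H', i1, i2, N, i3, i4, i5, π, f, A', x', y', o, hs⟩ := lb.exists_sysW hM tm (tw w hw) (hY w hw hw1)
    ⟨P, hP, ⟨p, hp, hpm⟩, fun q hq => hPY hq w hw⟩ (fun R hR => by
      by_cases h1 : ∃ r ∈ R, r • m ≠ m
      · exact ⟨w, hY w hw hw1, fun r hr => h.u1 R hR m hm tm h1 hr w hw⟩
      · push Not at h1
        exact ⟨m, hmH, h1⟩)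
  refine ⟨H', i1, i2, N, i3, i4, i5, T.map π, A', x', y', hs.sysT fun K hK hKo =>
    ML.Ex.TwoOdd.SysW.odd_of hs ?_ hK hKo⟩
  intro z hz _
  by_contra hz1
  -- the lift of `z`
  have hzT : z ∈ normalizer ((T.map π : Subgroup H') : Set H') := by
    rw [mem_normalizer_iff]
    intro t
    rw [← mem_center_iff.1 hz t, mul_inv_cancel_right]
  obtain ⟨t₀, ht₀, n₀, hn₀, rfl⟩ := norm_lift π o.πs h.two h.syl hzT
  set ζ := t₀ * n₀ with hζd
  have hζ : ζ ∈ normalizer (T : Set H) := mul_mem (le_normalizer ht₀) hn₀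
  -- `X ≤ U¹`
  obtain ⟨V, hXV, hPV, hVt⟩ := h.u2 P hP hPX
  have hVU : V ≤ cmm M A := by
    intro v hv
    by_cases hv1 : v = 1
    · rw [hv1]; exact one_mem _
    have he : (p • m) * m⁻¹ ∈ V := V.mul_mem (smul_mem (hPV hp) (hXV hm)) (V.inv_mem (hXV hm))
    have he1 : (p • m) * m⁻¹ ≠ 1 := fun h1 => hpm (mul_inv_eq_one.1 h1)
    obtain ⟨q, hq, rfl⟩ := hVt _ he _ hv he1 hv1
    exact smul_mem_cmm q (lb.orb_eq tm p)
  have hXU : X ≤ cmm M A := hXV.trans hVU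
  -- vectors of `X` centralised by `K₀`
  have hX0 : X ⊓ cv M (Km A : Set H) = ⊥ := by
    by_contra hne
    obtain ⟨m', hm', hm1', tm'⟩ := exists_fixed h.sq h.two hne (fun t ht x hx =>
      ⟨smul_mem (h.nX (le_normalizer ht)) hx.1, smul_mem_cvKm t hx.2⟩)
    exact hX fun g _ => h.sX m' hm'.1 hm1' (MulAction.mem_stabilizer_iff.2 (lb.fix_of_cvKm tm' hm'.2 g))
  -- the kernel fixes `X`
  have hkmod : ∀ (k : H) (u : M) (hu : u ∈ cmm M A), π k • f ⟨u, hu⟩ = f ⟨u, hu⟩ →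
      (k • u) * u⁻¹ ∈ cv M (Km A : Set H) := by
    intro k u hu hk
    rw [← o.eqv k ⟨u, hu⟩, ← mul_inv_eq_one, ← map_inv, ← map_mul, o.ker] at hk
    exact hk
  have hkerT : ∀ k : H, π k = 1 → ∀ m' ∈ X, (∀ t ∈ T, t • m' = m') → k • m' = m' := by
    intro k hk m' hm' tm'
    refine lb.fix_of_mod tm' (R := (T.map π).comap π) (le_comap_map π T) (I := cv M (Km A : Set H))
      (fun u hu tu g _ => lb.fix_of_cvKm tu hu g) ?_ k ?_
    · rintro g ⟨t, ht, htg⟩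
      refine hkmod g m' (hXU hm') ?_
      rw [← htg, ← o.eqv t ⟨m', hXU hm'⟩]
      exact congrArg f (Subtype.ext (tm' t ht))
    · change π k ∈ T.map π
      rw [hk]
      exact one_mem _
  have hker : ∀ k : H, π k = 1 → ∀ m' ∈ X, k • m' = m' := by
    intro k hk m' hm'
    have h1 : k ∈ nrm H X := h.sX m hm hm1 (MulAction.mem_stabilizer_iff.2 (hkerT k hk m hm tm))
    have h2 : (k • m') * m'⁻¹ ∈ X ⊓ cv M (Km A : Set H) :=
      ⟨X.mul_mem (smul_mem h1 hm') (X.inv_mem hm'), hkmod k m' (hXU hm') (by rw [hk, one_smul])⟩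
    rw [hX0, mem_bot, mul_inv_eq_one] at h2
    exact h2
  have hkerO : ∀ k : H, π k = 1 → ∀ g : H, ∀ m' ∈ X, k • g • m' = g • m' := by
    intro k hk g m' hm'
    have h1 : π (g⁻¹ * k * g) = 1 := by rw [map_mul, map_mul, hk, mul_one, ← map_mul, inv_mul_cancel, map_one]
    have h2 := hker _ h1 m' hm'
    rwa [mul_smul, mul_smul, inv_smul_eq_iff] at h2
  -- `ζ` fixes no vector of `Y#`
  have hζY : ∀ v ∈ Y, ζ • v = v → v = 1 := by
    intro v hv hζv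
    by_contra hv1
    obtain ⟨v', hv'U, hv'⟩ := lb.shift (tw v hv)
    have h1 : f ⟨v', hv'U⟩ ≠ 1 := by
      intro h1
      refine hY v hv hv1 fun g => (hv' g).1 ?_
      exact lb.fix_of_cvKm (fun t ht => (hv' t).2 (tw v hv t ht)) ((o.ker _).1 h1) g
    refine ML.Ex.TwoOdd.SysW.ne_of_center hs hz hz1 h1 ?_
    rw [← o.eqv ζ ⟨v', hv'U⟩]
    exact congrArg f (Subtype.ext ((hv' ζ).2 hζv))
  -- `Y ≤ U¹`
  have hcomm := Tools.comm_of_sq h.sq
  have hYU : Y ≤ cmm M A := by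
    have hnY : ζ ∈ nrm H Y := h.nY hζ
    let φ : Y → Y := fun v => ⟨(ζ • (v : M)) * (v : M)⁻¹, Y.mul_mem (smul_mem hnY v.2) (Y.inv_mem v.2)⟩
    have hφ : Function.Injective φ := by
      intro a b hab
      have h1 : (ζ • (a : M)) * (a : M)⁻¹ = (ζ • (b : M)) * (b : M)⁻¹ := congrArg Subtype.val hab
      have h2 : ζ • ((a : M) * (b : M)⁻¹) = (a : M) * (b : M)⁻¹ := by
        rw [smul_mul', smul_inv']
        calc ζ • (a : M) * (ζ • (b : M))⁻¹ = (ζ • (a : M)) * (a : M)⁻¹ * (a * (ζ • (b : M))⁻¹) := by group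
          _ = (ζ • (b : M)) * (b : M)⁻¹ * (a * (ζ • (b : M))⁻¹) := by rw [h1]
          _ = (ζ • (b : M)) * ((b : M)⁻¹ * a) * (ζ • (b : M))⁻¹ := by group
          _ = (b : M)⁻¹ * a := by rw [hcomm (ζ • (b : M)), mul_inv_cancel_right]
          _ = (a : M) * (b : M)⁻¹ := hcomm _ _
      have h3 := hζY _ (Y.mul_mem a.2 (Y.inv_mem b.2)) h2
      exact Subtype.ext (mul_inv_eq_one.1 h3)
    intro v hv
    obtain ⟨a, ha⟩ := Finite.surjective_of_injective hφ ⟨v, hv⟩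
    have h1 : (ζ • (a : M)) * (a : M)⁻¹ = v := congrArg Subtype.val ha
    rw [← h1]
    exact lb.orb_eq (tw a a.2) ζ
  -- the pairing
  have hfin : ζ ∈ fxr H Y := by
    refine h.pair ζ hζ {u | ∃ g : H, ∃ m' ∈ X, g • m' = u} (fun _ hu => hu) ?_ ?_
    · refine hYU.trans ((lb.cmm_le hM tm hmH).trans (orb_le fun g _ => subset_closure ⟨g, m, hm, rfl⟩))
    · rintro t ht _ ⟨g, m', hm', rfl⟩
      refine hkerO _ ?_ g m' hm'
      have h1 := mem_center_iff.1 hz (π t)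
      rw [map_mul, map_mul, map_mul, map_inv, map_inv, ← h1, mul_inv_cancel_right, mul_inv_cancel]
  exact hw1 (hζY w hw (hfin w hw))

end Geo

end Cfsg.Agent.Omega.KL.Q.OddG
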