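import Cfsg.Agent.Mrg.Omega.ML.MinIrr
import Cfsg.Agent.Mrg.Omega.ML.Ex.Def
import Cfsg.Agent.MinSimple.MinParabolic
import Cfsg.Agent.Mrg.Omega.KL.Def
import Cfsg.Agent.Mrg.Omega.KL.Mor

section


/-!
# TEXT H (#22058 = #22405), `(E)`, `k = 2`, `q ≥ 4`, case (iii), abstract half: the literal input and output (helper461)

`C` acts on the elementary abelian 2-group `M` (`C = C_G(Z₁)`, `M = N₁/Z₁`), `T` a Sylow 2-subgroup, `X` (`= x = Z₂~`),
`Y` (`= y = V₁~`), `V` (`= V₂~`) subgroups of `M`.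

* `nrm H X` : the set stabiliser of `X`;  `fxr H X` (of `Omega/ML/MinFrame.lean`) : the pointwise stabiliser;
* `TwoQ T V X Y` : the two points, `X` moved only by minimal parabolics which normalise `V`, are transitive on `V#` and
  fix `Y` pointwise;
* `PreQ T A V X Y` : **THE INPUT** (frame side); `C` need not be faithful, `A` is exact, not necessarily an atom;
  `NoPreQ` : it does not occur;
* `InpQ T A V X Y` : the same, `H` faithful, `A` an exact atom;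
* `SysQ T A V X Y` : **the middle**: `M` irreducible, `A ≤ O₂(R)` for all `T ≤ R < H`, `T` in two maximal subgroups;
* `KKQ K T A V X Y` : **the output**: moreover `K = F*(H)` simple, `H = KT`; `KKQ.inX` : the form of the rows.
-/

set_option autoImplicit false

namespace Cfsg.Agent.Omega.KL.Q.Def

open Subgroup Cfsg Cfsg.Agent.ZN Cfsg.Agent.ClassTwoFusion.Quad Cfsg.Agent.Omega.ML.MinFrame
open Cfsg.Agent.MinSimple.MinParabolic (IsMinPar)

universe u v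

/-- the set stabiliser of `X` -/
def nrm (H : Type u) [Group H] {M : Type v} [Group M] [MulDistribMulAction H M] (X : Subgroup M) : Subgroup H where
  carrier := {g | ∀ m : M, g • m ∈ X ↔ m ∈ X}
  one_mem' := fun m => by rw [one_smul]
  mul_mem' := fun {a b} ha hb m => by rw [mul_smul, ha, hb]
  inv_mem' := fun {a} ha m => by rw [← ha (a⁻¹ • m), smul_inv_smul]

theorem mem_nrm {H : Type u} [Group H] {M : Type v} [Group M] [MulDistribMulAction H M] {X : Subgroup M} {g : H} :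
    g ∈ nrm H X ↔ ∀ m : M, g • m ∈ X ↔ m ∈ X := Iff.rfl

/-- two points -/
structure TwoQ {H : Type u} [Group H] {M : Type v} [Group M] [MulDistribMulAction H M] (T : Subgroup H)
    (V X Y : Subgroup M) : Prop where
  sq : ∀ m : M, m * m = 1
  two : IsPGroup 2 T
  syl : ¬ 2 ∣ T.index
  X1 : X ≠ ⊥
  Y4 : 4 ≤ Nat.card Y
  XV : X ≤ V
  VY : V ⊓ Y = ⊥
  /-- `N_H(T)` normalises `X` and `Y` -/
  nX : normalizer (T : Set H) ≤ nrm H X
  nY : normalizer (T : Set H) ≤ nrm H Y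
  /-- `T` centralises `Y` -/
  tY : T ≤ fxr H Y
  /-- (FIX) `C_M(B) ≤ XY` for `B = C_T(X)` -/
  cB : cv M ((T ⊓ fxr H X : Subgroup H) : Set H) ≤ X ⊔ Y
  /-- (FIX) `C_M(C_T(V)) ≤ VY` -/
  cV : cv M ((T ⊓ fxr H V : Subgroup H) : Set H) ≤ V ⊔ Y
  /-- (TI) -/
  sX : ∀ m ∈ X, m ≠ 1 → MulAction.stabilizer H m ≤ nrm H X
  sY : ∀ v ∈ Y, v ≠ 1 → MulAction.stabilizer H v ≤ nrm H Y
  /-- (2) (c) -/
  sXY : ∀ m ∈ X, ∀ v ∈ Y, m ≠ 1 → v ≠ 1 → (∀ t ∈ T, t • m = m) → ∀ g : H, g • (m * v) = m * v →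
    g • m = m ∧ g • v = v
  /-- (U) -/
  uni : ∀ P : Subgroup H, IsMinPar T P → ¬ P ≤ nrm H X →
    P ≤ nrm H V ∧ P ≤ fxr H Y ∧ ∀ v ∈ V, ∀ w ∈ V, v ≠ 1 → w ≠ 1 → ∃ p ∈ P, p • v = w

/-- **THE INPUT** (`C` need not be faithful on `M`, `A` is exact) -/
structure PreQ {C : Type u} [Group C] {M : Type v} [Group M] [MulDistribMulAction C M] (T A : Subgroup C)
    (V X Y : Subgroup M) : Prop extends TwoQ T V X Y where
  /-- `M = ⟨x₀^C⟩` -/
  gen : ∃ m ∈ X, m ≠ 1 ∧ (∀ t ∈ T, t • m = m) ∧ orb (⊤ : Subgroup C) m = ⊤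
  /-- the pairing: `[ζ, T]` centralises `O`, so the preimage of `⟨O⟩ ≥ Y` -/
  pair : ∀ ζ ∈ normalizer (T : Set C), ∀ O : Set M, (∀ w ∈ O, ∃ g : C, ∃ m ∈ X, g • m = w) → Y ≤ closure O →
    (∀ t ∈ T, ∀ w ∈ O, (ζ * t * ζ⁻¹ * t⁻¹) • w = w) → ζ ∈ fxr C Y
  el : ∀ a ∈ A, a * a = 1
  Ax : A ≤ o2 (nrm C X)
  Ay : A ≤ o2 (nrm C Y)
  mv : ∃ a ∈ A, ∃ m : M, a • m ≠ m
  le : (cv M (A : Set C)).index ≤ (fxr C (⊤ : Subgroup M)).relIndex A
  KC : IsKGroup C

/-- the conclusion of THEOREM KLQ -/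
def NoPreQ : Prop :=
  ∀ (C : Type u) [Group C] [Finite C] (M : Type v) [Group M] [Finite M] [MulDistribMulAction C M]
    (T A : Subgroup C) (V X Y : Subgroup M), ¬ PreQ T A V X Y

/-- an exact atom -/
structure Atom {H : Type u} [Group H] (M : Type v) [Group M] [MulDistribMulAction H M] (A : Subgroup H) : Prop where
  el : ∀ a ∈ A, a * a = 1
  A1 : A ≠ ⊥
  exact : (cv M (A : Set H)).index = Nat.card A
  atom : ∀ C : Subgroup H, C ≤ A → C ≠ ⊥ → C ≠ A → Nat.card C < (cv M (C : Set H)).index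

/-- the input, faithful, with an atom -/
structure InpQ {H : Type u} [Group H] {M : Type v} [Group M] [MulDistribMulAction H M] (T A : Subgroup H)
    (V X Y : Subgroup M) : Prop extends TwoQ T V X Y, Atom M A where
  faith : ∀ h : H, (∀ m : M, h • m = m) → h = 1
  pair : ∀ ζ ∈ normalizer (T : Set H), ∀ O : Set M, (∀ w ∈ O, ∃ g : H, ∃ m ∈ X, g • m = w) → Y ≤ closure O →
    (∀ t ∈ T, ∀ w ∈ O, (ζ * t * ζ⁻¹ * t⁻¹) • w = w) → ζ ∈ fxr H Y
  Ax : A ≤ o2 (nrm H X)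
  Ay : A ≤ o2 (nrm H Y)
  KH : IsKGroup H

/-- **the middle** -/
structure SysQ {H : Type u} [Group H] {M : Type v} [Group M] [MulDistribMulAction H M] (T A : Subgroup H)
    (V X Y : Subgroup M) : Prop extends TwoQ T V X Y, Atom M A where
  faith : ∀ h : H, (∀ m : M, h • m = m) → h = 1
  irr : ∀ W : Subgroup M, (∀ h : H, ∀ w ∈ W, h • w ∈ W) → W = ⊥ ∨ W = ⊤
  /-- the pairing: `C_H(T)` centralises `Y` -/
  pair : centralizer (T : Set H) ≤ fxr H Y
  AT : A ≤ T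
  low : ∀ R : Subgroup H, T ≤ R → R ≠ ⊤ → A ≤ o2 R
  nmax : ¬ ∃ N : Subgroup H, N ≠ ⊤ ∧ ∀ R : Subgroup H, T ≤ R → R ≠ ⊤ → R ≤ N
  KH : IsKGroup H

/-- **the output** -/
structure KKQ {H : Type u} [Group H] {M : Type v} [Group M] [MulDistribMulAction H M] (K T A : Subgroup H)
    (V X Y : Subgroup M) : Prop extends SysQ T A V X Y where
  norm : K.Normal
  simple : IsSimpleGroup K
  cen : centralizer (K : Set H) = ⊥
  KT : K ⊔ T = ⊤
  four : 4 ≤ Nat.card A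

/-- atoms are sub-exact -/
theorem Atom.sub {H : Type u} [Group H] {M : Type v} [Group M] [MulDistribMulAction H M] {A : Subgroup H}
    (h : Atom M A) (C : Subgroup H) (hC : C ≤ A) : Nat.card C ≤ (cv M (C : Set H)).index := by
  by_cases h1 : C = ⊥
  · subst h1
    rw [card_bot]
    have h2 : cv M ((⊥ : Subgroup H) : Set H) = ⊤ := by
      rw [eq_top_iff]
      intro m _ x hx
      rw [coe_bot, Set.mem_singleton_iff] at hx
      rw [hx, one_smul]
    rw [h2, index_top]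
  · by_cases h2 : C = A
    · rw [h2, h.exact]
    · exact (h.atom C hC h1 h2).le

/-- the form of the rows -/
theorem KKQ.inX {H : Type u} [Group H] {M : Type v} [Group M] [MulDistribMulAction H M] {K T A : Subgroup H}
    {V X Y : Subgroup M} (h : KKQ K T A V X Y) : ML.Ex.InX H M K T A where
  sq := h.sq
  faith := h.faith
  irr := h.irr
  norm := h.norm
  simple := h.simple
  cen := h.cen
  gen := h.KT
  two := h.two
  syl := h.syl
  AT := h.AT
  el := h.el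
  four := h.four
  exact := h.exact
  sub := h.toAtom.sub
  low := h.low
  nmax := h.nmax

end Cfsg.Agent.Omega.KL.Q.Def

end

section


/-!
# THEOREM KLQ, the input (Gq) (helper381 #22723; helper49 #23432, helper176 #23681)

`C` acts on the elementary abelian 2-group `M`, `T` a Sylow 2-subgroup of `C`, `X`, `Y` subgroups of `M`, `A ≤ C` elementary
abelian, exact on `M`. No LEMMA FIX on `M`; valid at every level, for `k = 2` (`C = C_G(Z₁)`, `M = N₁/Z₁`, `X = Z₂~`,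
`Y = V₁/Z₁`) and for `k ≥ 3` (`C = Y_j`).

* `PreG T A X Y` : **the input**; `NoPreG` : it does not occur;
* `PreG.gen_orb` : if `M = ⟨m^C⟩`.
-/

set_option autoImplicit false

namespace Cfsg.Agent.Omega.KL.Q.DefG

open Subgroup Cfsg Cfsg.Agent.ZN Cfsg.Agent.ClassTwoFusion.Quad Cfsg.Agent.Omega.ML.MinFrame
open Cfsg.Agent.Omega.KL.Q.Def (nrm mem_nrm)
open Cfsg.Agent.MinSimple.MinParabolic (IsMinPar)

universe u v

/-- **THE INPUT (Gq)** (`C` need not be faithful on `M`, `A` is exact, not necessarily an atom) -/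
structure PreG {C : Type u} [Group C] {M : Type v} [Group M] [MulDistribMulAction C M] (T A : Subgroup C)
    (X Y : Subgroup M) : Prop where
  sq : ∀ m : M, m * m = 1
  two : IsPGroup 2 T
  syl : ¬ 2 ∣ T.index
  Y4 : 4 ≤ Nat.card Y
  XY : X ⊓ Y = ⊥
  /-- `N_C(T)` normalises `X` and `Y` -/
  nX : normalizer (T : Set C) ≤ nrm C X
  nY : normalizer (T : Set C) ≤ nrm C Y
  /-- `T` centralises `Y` -/
  tY : T ≤ fxr C Y
  /-- (TI) -/
  sX : ∀ m ∈ X, m ≠ 1 → MulAction.stabilizer C m ≤ nrm C X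
  sY : ∀ v ∈ Y, v ≠ 1 → MulAction.stabilizer C v ≤ nrm C Y
  /-- (U1) -/
  u1 : ∀ P : Subgroup C, IsMinPar T P → ∀ m ∈ X, (∀ t ∈ T, t • m = m) → (∃ p ∈ P, p • m ≠ m) → P ≤ fxr C Y
  /-- (U2) -/
  u2 : ∀ P : Subgroup C, IsMinPar T P → ¬ P ≤ nrm C X → P ≤ fxr C Y ∧ ∃ V : Subgroup M, X ≤ V ∧ P ≤ nrm C V ∧
    V ⊓ Y = ⊥ ∧ ∀ v ∈ V, ∀ w ∈ V, v ≠ 1 → w ≠ 1 → ∃ p ∈ P, p • v = w
  /-- `C_X(T) ≠ 1` -/
  ex : ∃ m ∈ X, m ≠ 1 ∧ ∀ t ∈ T, t • m = m
  /-- `M = ⟨m^C⟩⟨Y^C⟩` -/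
  gen : ∀ m ∈ X, m ≠ 1 → (∀ t ∈ T, t • m = m) → ∀ U : Subgroup M, m ∈ U → Y ≤ U →
    (∀ c : C, ∀ u ∈ U, c • u ∈ U) → U = ⊤
  /-- the pairing: `[ζ, T]` centralises `O`, so the preimage of `⟨O⟩ ≥ Y` -/
  pair : ∀ ζ ∈ normalizer (T : Set C), ∀ O : Set M, (∀ w ∈ O, ∃ g : C, ∃ m ∈ X, g • m = w) → Y ≤ closure O →
    (∀ t ∈ T, ∀ w ∈ O, (ζ * t * ζ⁻¹ * t⁻¹) • w = w) → ζ ∈ fxr C Y
  el : ∀ a ∈ A, a * a = 1
  Ax : A ≤ o2 (nrm C X)
  Ay : A ≤ o2 (nrm C Y)
  mv : ∃ a ∈ A, ∃ m : M, a • m ≠ m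
  le : (cv M (A : Set C)).index ≤ (fxr C (⊤ : Subgroup M)).relIndex A
  KC : IsKGroup C

/-- the conclusion of THEOREM KLQ -/
def NoPreG : Prop :=
  ∀ (C : Type u) [Group C] [Finite C] (M : Type v) [Group M] [Finite M] [MulDistribMulAction C M]
    (T A : Subgroup C) (X Y : Subgroup M), ¬ PreG T A X Y

/-- `gen` if `M = ⟨m^C⟩` -/
theorem gen_of_orb {C : Type u} [Group C] {M : Type v} [Group M] [MulDistribMulAction C M] {m : M}
    (h : orb (⊤ : Subgroup C) m = ⊤) {U : Subgroup M} (hm : m ∈ U) (hU : ∀ c : C, ∀ u ∈ U, c • u ∈ U) : U = ⊤ := by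
  rw [eq_top_iff, ← h]
  exact orb_le fun g _ => hU g m hm

end Cfsg.Agent.Omega.KL.Q.DefG

end

section


/-!
# TEXT H (#22058), abstract half: tools (helper461)

* `mem_nrm_of`, `fxr_le_nrm`, `nrm_fxr` : set stabilisers;
* `alt`, `eq_of_le` : a normal subgroup `D` of a `T`-minimal `P` : `DT = P` or `T ∩ D` is normal in `P`;
* `exists_fixed` in `X` : `TwoQ.exists_m`; `eq_of_mul` : `V ∩ Y = 1`;
* `TwoQ.fix_top`, ...;
* **`sXY_of`** : (2) (c) from `N(C_T(X)) ≤ N(X) ∩ N(Y)`.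
-/

set_option autoImplicit false

namespace Cfsg.Agent.Omega.KL.Q.Tools

open Subgroup Cfsg Cfsg.Agent.ZN Cfsg.Agent.ClassTwoFusion.Quad Cfsg.Agent.Omega.ML.MinFrame
open Cfsg.Agent.Omega.KL.Q.Def
open Cfsg.Agent.MinSimple.MinParabolic (IsMinPar le_of_forall)

universe u v

section nrm

variable {H : Type u} [Group H] {M : Type v} [Group M] [MulDistribMulAction H M] {X Y V : Subgroup M}

theorem mem_nrm_of [Finite M] {g : H} (h : ∀ m ∈ X, g • m ∈ X) : g ∈ nrm H X := by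
  rw [mem_nrm]
  intro m
  refine ⟨fun hm => ?_, h m⟩
  have hinj : Function.Injective (fun w : X => (⟨g • (w : M), h w w.2⟩ : X)) := fun a b hab =>
    Subtype.ext (smul_left_cancel g (congrArg Subtype.val hab))
  obtain ⟨w, hw⟩ := Finite.surjective_of_injective hinj ⟨g • m, hm⟩
  have h1 : g • (w : M) = g • m := congrArg Subtype.val hw
  rw [← smul_left_cancel g h1]
  exact w.2

theorem smul_mem {g : H} (h : g ∈ nrm H X) {m : M} (hm : m ∈ X) : g • m ∈ X := (h m).2 hm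

theorem fxr_le_nrm [Finite M] : fxr H X ≤ nrm H X := fun g hg => mem_nrm_of fun m hm => by
  rw [mem_fxr.1 hg m hm]; exact hm

/-- `nrm` normalises `fxr` -/
theorem conj_fxr {g k : H} (hg : g ∈ nrm H X) (hk : k ∈ fxr H X) : g * k * g⁻¹ ∈ fxr H X := by
  rw [mem_fxr] at hk ⊢
  intro m hm
  have h1 : g⁻¹ • m ∈ X := smul_mem (inv_mem hg) hm
  rw [mul_smul, mul_smul, hk _ h1, smul_inv_smul]

theorem nrm_le_normalizer : nrm H X ≤ normalizer (fxr H X : Set H) := by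
  intro g hg
  rw [mem_normalizer_iff]
  intro k
  refine ⟨conj_fxr hg, fun h => ?_⟩
  have h1 := conj_fxr (inv_mem hg) h
  have e : g⁻¹ * (g * k * g⁻¹) * g⁻¹⁻¹ = k := by group
  rwa [e] at h1

theorem fxr_anti (h : X ≤ Y) : fxr H Y ≤ fxr H X := fun _ hg m hm => hg m (h hm)

theorem sup_fxr {g : H} (hX : g ∈ fxr H X) (hY : g ∈ fxr H Y) : g ∈ fxr H (X ⊔ Y) := by
  rw [mem_fxr]
  have h : X ⊔ Y ≤ cv M ({g} : Set H) := by
    refine sup_le (fun m hm x hx => ?_) (fun m hm x hx => ?_)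
    · rw [Set.mem_singleton_iff] at hx
      rw [hx]; exact hX m hm
    · rw [Set.mem_singleton_iff] at hx
      rw [hx]; exact hY m hm
  exact fun m hm => h hm g rfl

theorem comm_of_sq (sq : ∀ m : M, m * m = 1) (a b : M) : a * b = b * a := by
  have h1 : ∀ z : M, z⁻¹ = z := fun z => inv_eq_of_mul_eq_one_right (sq z)
  calc a * b = (a * b)⁻¹ := (h1 _).symm
    _ = b⁻¹ * a⁻¹ := mul_inv_rev _ _
    _ = b * a := by rw [h1, h1]

theorem inv_of_sq (sq : ∀ m : M, m * m = 1) (z : M) : z⁻¹ = z := inv_eq_of_mul_eq_one_right (sq z)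

/-- elements of `XY` -/
theorem mem_sup (sq : ∀ m : M, m * m = 1) {w : M} : w ∈ X ⊔ Y ↔ ∃ x ∈ X, ∃ y ∈ Y, x * y = w := by
  have hX : X ≤ normalizer (Y : Set M) := by
    intro x _
    rw [mem_normalizer_iff]
    intro m
    rw [comm_of_sq sq x m, mul_inv_cancel_right]
  rw [← SetLike.mem_coe, coe_mul_of_left_le_normalizer_right X Y hX]
  exact Iff.rfl

/-- uniqueness -/
theorem eq_of_mul (h : X ⊓ Y = ⊥) {x x' y y' : M} (hx : x ∈ X) (hx' : x' ∈ X) (hy : y ∈ Y)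
    (hy' : y' ∈ Y) (he : x * y = x' * y') : x = x' ∧ y = y' := by
  have h1 : x'⁻¹ * x = y' * y⁻¹ := by
    rw [inv_mul_eq_iff_eq_mul, ← mul_assoc, ← he, mul_inv_cancel_right]
  have h2 : x'⁻¹ * x ∈ X ⊓ Y := ⟨X.mul_mem (X.inv_mem hx') hx, by rw [h1]; exact Y.mul_mem hy' (Y.inv_mem hy)⟩
  rw [h, mem_bot] at h2
  refine ⟨(inv_mul_eq_one.1 h2).symm, ?_⟩
  rw [h1] at h2
  exact (mul_inv_eq_one.1 h2).symm

end nrm

section par

variable {H : Type u} [Group H] [Finite H] {T P D : Subgroup H}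

/-- a normal subgroup of a minimal parabolic -/
theorem alt (hT : IsPGroup 2 T) (hs : ¬ 2 ∣ T.index) (hP : IsMinPar T P) (hD : D ≤ P)
    (hn : P ≤ normalizer (D : Set H)) : D ⊔ T = P ∨ P ≤ normalizer ((T ⊓ D : Subgroup H) : Set H) := by
  by_cases h1 : D ⊔ T = P
  · exact Or.inl h1
  right
  obtain ⟨N, hN, hN2⟩ := hP.exists_max
  have h2 : D ⊔ T ≤ N := hN2 _ le_sup_right (lt_of_le_of_ne (sup_le hD hP.le) h1)
  have h3 := MinSimple.Basic.frattini hP.le hT (fun h => hs (h.trans (relIndex_dvd_index_of_le hP.le))) hn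
  by_contra h4
  have h5 : P ⊓ normalizer ((T ⊓ D : Subgroup H) : Set H) ≤ N := by
    refine hN2 _ (le_inf hP.le ?_) (lt_of_le_of_ne inf_le_left fun h => h4 (inf_eq_left.1 h))
    intro t ht
    rw [mem_normalizer_iff]
    have h6 := hn (hP.le ht)
    rw [mem_normalizer_iff] at h6
    intro x
    constructor
    · rintro ⟨hx1, hx2⟩
      exact ⟨T.mul_mem (T.mul_mem ht hx1) (T.inv_mem ht), (h6 x).1 hx2⟩
    · rintro ⟨hx1, hx2⟩
      refine ⟨?_, (h6 x).2 hx2⟩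
      have := T.mul_mem (T.mul_mem (T.inv_mem ht) hx1) ht
      have e : t⁻¹ * (t * x * t⁻¹) * t = x := by group
      rwa [e] at this
  exact absurd (h3.trans (sup_le (le_sup_left.trans h2) h5)) (not_le_of_gt hN)

/-- a normal subgroup of a minimal parabolic which contains `T` -/
theorem eq_of_le (hT : IsPGroup 2 T) (hs : ¬ 2 ∣ T.index) (hP : IsMinPar T P) (hD : D ≤ P)
    (hn : P ≤ normalizer (D : Set H)) (hTD : T ≤ D) : D = P := by
  rcases alt hT hs hP hD hn with h | h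
  · rwa [sup_eq_left.2 hTD] at h
  · rw [inf_eq_left.2 hTD] at h
    exact absurd h hP.not_le

end par

section sXY

variable {H : Type u} [Group H] [Finite H] {M : Type v} [Group M] [MulDistribMulAction H M] {T : Subgroup H}
  {X Y : Subgroup M}

/-- **(2) (c)** : `Stab(mv) = Stab(m) ∩ Stab(v)`, from `nB` -/
theorem sXY_of (two : IsPGroup 2 T) (syl : ¬ 2 ∣ T.index) (XY : X ⊓ Y = ⊥)
    (nX : normalizer (T : Set H) ≤ nrm H X) (nY : normalizer (T : Set H) ≤ nrm H Y) (tY : T ≤ fxr H Y)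
    (nB : normalizer ((T ⊓ fxr H X : Subgroup H) : Set H) ≤ nrm H Y)
    (uni : ∀ P : Subgroup H, IsMinPar T P → ¬ P ≤ nrm H X → P ≤ fxr H Y) :
    ∀ m ∈ X, ∀ v ∈ Y, m ≠ 1 → v ≠ 1 → (∀ t ∈ T, t • m = m) → ∀ g : H, g • (m * v) = m * v →
      g • m = m ∧ g • v = v := by
  intro m hm v hv hm1 _ htm
  have key : ∀ g : H, g • (m * v) = m * v → g ∈ nrm H X → g ∈ nrm H Y → g • m = m ∧ g • v = v := by
    intro g hg h1 h2
    rw [smul_mul'] at hg
    exact eq_of_mul XY (smul_mem h1 hm) hm (smul_mem h2 hv) hv hg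
  have hcancel : ∀ g : H, g • (m * v) = m * v → g • v = v → g • m = m := by
    intro g hg hgv
    rw [smul_mul', hgv] at hg
    exact mul_right_cancel hg
  set S : Subgroup H := MulAction.stabilizer H (m * v) with hS
  have hTS : T ≤ S := fun t ht => MulAction.mem_stabilizer_iff.2 (by rw [smul_mul', htm t ht, mem_fxr.1 (tY ht) v hv])
  have hmain : S ≤ MulAction.stabilizer H v := by
    refine le_of_forall hTS ?_ ?_
    · rintro g ⟨hg1, hg2⟩
      exact MulAction.mem_stabilizer_iff.2 (key g hg1 (nX hg2) (nY hg2)).2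
    · intro P hP hPS
      by_cases hPX : P ≤ nrm H X
      · set D : Subgroup H := P ⊓ fxr H X with hD
        have hDn : P ≤ normalizer (D : Set H) := by
          intro g hg
          have h1 := nrm_le_normalizer (hPX hg)
          rw [mem_normalizer_iff] at h1 ⊢
          intro k
          constructor
          · rintro ⟨hk1, hk2⟩
            exact ⟨P.mul_mem (P.mul_mem hg hk1) (P.inv_mem hg), (h1 k).1 hk2⟩
          · rintro ⟨hk1, hk2⟩
            refine ⟨?_, (h1 k).2 hk2⟩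
            have := P.mul_mem (P.mul_mem (P.inv_mem hg) hk1) hg
            have e : g⁻¹ * (g * k * g⁻¹) * g = k := by group
            rwa [e] at this
        rcases alt two syl hP inf_le_left hDn with h1 | h1
        · rw [← h1]
          refine sup_le (fun d hd => ?_) fun t ht => MulAction.mem_stabilizer_iff.2 (mem_fxr.1 (tY ht) v hv)
          rw [MulAction.mem_stabilizer_iff]
          have h2 : d • (m * v) = m * v := hPS hd.1
          rw [smul_mul', mem_fxr.1 hd.2 m hm] at h2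
          exact mul_left_cancel h2
        · have h2 : T ⊓ D = T ⊓ fxr H X := by
            rw [hD, ← inf_assoc, inf_eq_left.2 hP.le]
          rw [h2] at h1
          intro g hg
          exact MulAction.mem_stabilizer_iff.2 (key g (hPS hg) (hPX hg) (nB (h1 hg))).2
      · exact fun g hg => MulAction.mem_stabilizer_iff.2 (mem_fxr.1 (uni P hP hPX hg) v hv)
  intro g hg
  have h1 : g • v = v := hmain hg
  exact ⟨hcancel g hg h1, h1⟩

end sXY

end Cfsg.Agent.Omega.KL.Q.Tools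

end

section


/-!
# TEXT H (#22058), abstract half: `PreQ → InpQ` (helper461)

The action may be non-faithful and `A` is not an atom; **`PreQ.inp`** : `C / C_C(M)` and an atom of `A`.
-/

set_option autoImplicit false

namespace Cfsg.Agent.Omega.KL.Q.Pre

open Subgroup Cfsg Cfsg.Agent.ZN Cfsg.Agent.ClassTwoFusion.Quad Cfsg.Agent.Omega.ML.MinFrame
open Cfsg.Agent.Omega.KL.Q.Def Cfsg.Agent.Omega.KL.Q.Tools
open Cfsg.Agent.Omega.KL.Quo (exists_minPar norm_lift)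
open Cfsg.Agent.MinSimple.MinParabolic (IsMinPar le_of_forall)
open Cfsg.Agent.MinSimple.VModule (o2_isPGroup o2_le le_o2 le_normalizer_o2)

universe u v

section quo

variable {C : Type u} [Group C] [Finite C] {M : Type v} [Group M] [Finite M] [MulDistribMulAction C M]
  {H : Type u} [Group H] [MulDistribMulAction H M] {T : Subgroup C} {V X Y : Subgroup M}

variable {π : C →* H} (hπ : Function.Surjective π) (he : ∀ (g : C) (v : M), π g • v = g • v)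

include hπ he

omit [Finite C] [Finite M] in
theorem nrm_map : (nrm C X).map π = nrm H X := by
  ext g
  constructor
  · rintro ⟨c, hc, rfl⟩
    rw [mem_nrm]
    intro m
    rw [he]
    exact hc m
  · intro hg
    obtain ⟨c, rfl⟩ := hπ g
    exact ⟨c, fun m => by rw [← he]; exact hg m, rfl⟩

omit [Finite C] [Finite M] in
theorem fxr_map : (fxr C X).map π = fxr H X := by
  ext g
  constructor
  · rintro ⟨c, hc, rfl⟩ m hm
    rw [he]
    exact hc m hm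
  · intro hg
    obtain ⟨c, rfl⟩ := hπ g
    exact ⟨c, fun m hm => by rw [← he]; exact hg m hm, rfl⟩

/-- `TwoQ` of a quotient by a group which centralises `M` -/
theorem twoQ_map (h : TwoQ T V X Y) : TwoQ (T.map π) V X Y where
  sq := h.sq
  two := h.two.map π
  syl := fun h2 => h.syl (h2.trans (index_map_dvd T hπ))
  X1 := h.X1
  Y4 := h.Y4
  XV := h.XV
  VY := h.VY
  nX := by
    intro g hg
    obtain ⟨t, ht, n, hn, rfl⟩ := norm_lift π hπ h.two h.syl hg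
    rw [← nrm_map hπ he]
    exact mem_map_of_mem π (mul_mem (h.nX (le_normalizer ht)) (h.nX hn))
  nY := by
    intro g hg
    obtain ⟨t, ht, n, hn, rfl⟩ := norm_lift π hπ h.two h.syl hg
    rw [← nrm_map hπ he]
    exact mem_map_of_mem π (mul_mem (h.nY (le_normalizer ht)) (h.nY hn))
  tY := by
    rw [← fxr_map hπ he]
    exact map_mono h.tY
  cB := by
    intro w hw
    refine h.cB fun t ht => ?_
    rw [← he]
    refine hw _ ⟨mem_map_of_mem π ht.1, ?_⟩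
    rw [← fxr_map hπ he]
    exact mem_map_of_mem π ht.2
  cV := by
    intro w hw
    refine h.cV fun t ht => ?_
    rw [← he]
    refine hw _ ⟨mem_map_of_mem π ht.1, ?_⟩
    rw [← fxr_map hπ he]
    exact mem_map_of_mem π ht.2
  sX := by
    intro m hm hm1 g hg
    obtain ⟨c, rfl⟩ := hπ g
    rw [← nrm_map hπ he]
    exact mem_map_of_mem π (h.sX m hm hm1 (by rw [MulAction.mem_stabilizer_iff] at hg ⊢; rwa [he] at hg))
  sY := by
    intro m hm hm1 g hg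
    obtain ⟨c, rfl⟩ := hπ g
    rw [← nrm_map hπ he]
    exact mem_map_of_mem π (h.sY m hm hm1 (by rw [MulAction.mem_stabilizer_iff] at hg ⊢; rwa [he] at hg))
  sXY := by
    intro m hm v hv hm1 hv1 htm g hg
    obtain ⟨c, rfl⟩ := hπ g
    rw [he] at hg ⊢
    rw [he]
    exact h.sXY m hm v hv hm1 hv1 (fun t ht => by rw [← he]; exact htm _ (mem_map_of_mem π ht)) c hg
  uni := by
    intro P hP hmv
    obtain ⟨R, hR, rfl⟩ := exists_minPar π hπ hP
    obtain ⟨h1, h2, h3⟩ := h.uni R hR (fun h4 => hmv (by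
      rw [← nrm_map hπ he]
      exact map_mono h4))
    refine ⟨?_, ?_, ?_⟩
    · rw [← nrm_map hπ he]
      exact map_mono h1
    · rw [← fxr_map hπ he]
      exact map_mono h2
    · intro v hv w hw hv1 hw1
      obtain ⟨p, hp, hpw⟩ := h3 v hv w hw hv1 hw1
      exact ⟨π p, mem_map_of_mem π hp, by rw [he]; exact hpw⟩

omit [Finite C] [Finite M] in
/-- the `pair` field -/
theorem pair_map (two : IsPGroup 2 T) (syl : ¬ 2 ∣ T.index) [Finite C]
    (pair : ∀ ζ ∈ normalizer (T : Set C), ∀ O : Set M, (∀ w ∈ O, ∃ g : C, ∃ m ∈ X, g • m = w) → Y ≤ closure O →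
      (∀ t ∈ T, ∀ w ∈ O, (ζ * t * ζ⁻¹ * t⁻¹) • w = w) → ζ ∈ fxr C Y) :
    ∀ ζ ∈ normalizer (T.map π : Set H), ∀ O : Set M, (∀ w ∈ O, ∃ g : H, ∃ m ∈ X, g • m = w) → Y ≤ closure O →
      (∀ t ∈ T.map π, ∀ w ∈ O, (ζ * t * ζ⁻¹ * t⁻¹) • w = w) → ζ ∈ fxr H Y := by
  intro ζ hζ O hO hY hc
  obtain ⟨t, ht, n, hn, rfl⟩ := norm_lift π hπ two syl hζ
  rw [← fxr_map hπ he]
  refine mem_map_of_mem π (pair (t * n) (mul_mem (le_normalizer ht) hn) O ?_ hY ?_)
  · intro w hw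
    obtain ⟨g, m, hm, hgm⟩ := hO w hw
    obtain ⟨c, rfl⟩ := hπ g
    exact ⟨c, m, hm, by rw [← he]; exact hgm⟩
  · intro s hs w hw
    have h1 := hc (π s) (mem_map_of_mem π hs) w hw
    rw [← he]
    simpa only [map_mul, map_inv] using h1

end quo

section pre

variable {C : Type u} [Group C] [Finite C] {M : Type v} [Group M] [Finite M] [MulDistribMulAction C M]
  {T A : Subgroup C} {V X Y : Subgroup M}

theorem inp (hML : ML.Final.MLK.{u, v}) (h : PreQ T A V X Y) :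
    ∃ (H : Type u) (_ : Group H) (_ : Finite H) (_ : MulDistribMulAction H M) (T' A' : Subgroup H),
      InpQ T' A' V X Y := by
  have htriv : ∀ k ∈ fxr C (⊤ : Subgroup M), ∀ m : M, k • m = m := fun k hk m => hk m (mem_top m)
  have hN : (fxr C (⊤ : Subgroup M)).Normal := fxr_normal fun _ _ _ => mem_top _
  set N := fxr C (⊤ : Subgroup M) with hNdef
  let _ : MulDistribMulAction (C ⧸ N) M := quoAct N htriv
  let π : C →* C ⧸ N := QuotientGroup.mk' N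
  have hπ : Function.Surjective π := QuotientGroup.mk'_surjective N
  have he : ∀ (g : C) (v : M), π g • v = g • v := fun _ _ => rfl
  have hker : ∀ k : C, (∀ v : M, k • v = v) → π k = 1 := fun k hk =>
    (QuotientGroup.eq_one_iff k).2 fun v _ => hk v
  have hker2 : ∀ k : C, π k = 1 → ∀ v : M, k • v = v := fun k hk v =>
    (QuotientGroup.eq_one_iff k).1 hk v (mem_top v)
  obtain ⟨x, hxX, hx1, hTx, hgen⟩ := h.gen
  have ho2 : ∀ S : Subgroup C, A ≤ o2 S → A.map π ≤ o2 (S.map π) := fun S hS =>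
    (map_mono hS).trans (le_o2 (map_mono (o2_le _)) ((o2_isPGroup _).map π)
      ((map_mono (le_normalizer_o2 _)).trans (le_normalizer_map π)))
  have hx : A.map π ≤ o2 (nrm (C ⧸ N) X) := by
    rw [← nrm_map hπ he]
    exact ho2 _ h.Ax
  have hy : A.map π ≤ o2 (nrm (C ⧸ N) Y) := by
    rw [← nrm_map hπ he]
    exact ho2 _ h.Ay
  have hgen' : orb (⊤ : Subgroup (C ⧸ N)) x = ⊤ := by
    rw [eq_top_iff, ← hgen]
    exact orb_le fun g _ => smul_mem_orb_self (g := π g) (mem_top _)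
  have hfaith : ∀ g : C ⧸ N, (∀ m : M, g • m = m) → g = 1 := by
    intro g hg
    obtain ⟨c, rfl⟩ := hπ g
    exact hker c hg
  have hsyl : ¬ 2 ∣ (T.map π).index := fun h2 => h.syl (h2.trans (index_map_dvd T hπ))
  have hKH : IsKGroup (C ⧸ N) := ML.Final.sec_KG.quo C h.KC N
  have hel : ∀ a ∈ A.map π, a * a = 1 := by
    rintro _ ⟨a, ha, rfl⟩
    rw [← map_mul, h.el a ha, map_one]
  have hTQ := twoQ_map hπ he h.toTwoQ
  -- `A ≤ O₂(Stab x)`
  have hAT : A.map π ≤ T.map π := by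
    exact hx.trans (MinSimple.VModule.o2_le_of_sylow (h.two.map π)
      fun h2 => hsyl (h2.trans (relIndex_dvd_index_of_le (le_normalizer.trans hTQ.nX))))
  have hstab : A.map π ≤ o2 (MulAction.stabilizer (C ⧸ N) x) := by
    have h1 : A.map π ≤ MulAction.stabilizer (C ⧸ N) x := by
      intro a ha
      obtain ⟨t, ht, rfl⟩ := hAT ha
      rw [MulAction.mem_stabilizer_iff, he, hTx t ht]
    have h2 : o2 (nrm (C ⧸ N) X) ⊓ MulAction.stabilizer (C ⧸ N) x ≤ o2 (MulAction.stabilizer (C ⧸ N) x) := by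
      refine le_o2 inf_le_right ((o2_isPGroup _).to_le inf_le_left) ?_
      intro g hg
      have h3 := le_normalizer_o2 _ (hTQ.sX x hxX hx1 hg)
      rw [mem_normalizer_iff] at h3 ⊢
      intro k
      constructor
      · rintro ⟨hk1, hk2⟩
        exact ⟨(h3 k).1 hk1, Subgroup.mul_mem _ (Subgroup.mul_mem _ hg hk2) (Subgroup.inv_mem _ hg)⟩
      · rintro ⟨hk1, hk2⟩
        refine ⟨(h3 k).2 hk1, ?_⟩
        have := Subgroup.mul_mem _ (Subgroup.mul_mem _ (Subgroup.inv_mem _ hg) hk2) hg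
        have e : g⁻¹ * (g * k * g⁻¹) * g = k := by group
        rwa [e] at this
    exact (le_inf hx h1).trans h2
  -- (NO)
  have hfx : fxr (C ⧸ N) (⊤ : Subgroup M) = ⊥ := by
    rw [Subgroup.eq_bot_iff_forall]
    exact fun g hg => hfaith g fun m => hg m (mem_top m)
  have hno : ∀ B : Subgroup (C ⧸ N), B ≤ A.map π → Nat.card B ≤ (cv M (B : Set (C ⧸ N))).index := by
    intro B hB
    have key := GenTool.no hML hKH h.sq (T := T.map π) (A := B) (x := x) (h.two.map π) hsyl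
      (by
        rintro _ ⟨t, ht, rfl⟩
        rw [he, hTx t ht]) hgen' (fun b hb => hel b (hB hb)) (hB.trans hstab)
    rwa [hfx, relIndex_bot_left] at key
  -- `A` is exact
  have hcv : cv M (A.map π : Set (C ⧸ N)) = cv M (A : Set C) := by
    ext v
    constructor
    · exact fun hv a ha => hv _ ⟨a, ha, rfl⟩
    · rintro hv _ ⟨a, ha, rfl⟩
      exact hv a ha
  have hcard : Nat.card (A.map π) = N.relIndex A := by
    rw [← relIndex_bot_left, ← relIndex_comap, MonoidHom.comap_bot, QuotientGroup.ker_mk']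
  have hex : (cv M (A.map π : Set (C ⧸ N))).index = Nat.card (A.map π) := by
    refine le_antisymm ?_ (hno _ le_rfl)
    rw [hcv, hcard]
    exact h.le
  have hA1 : A.map π ≠ ⊥ := by
    intro h1
    obtain ⟨a, ha, m, ham⟩ := h.mv
    apply ham
    refine hker2 a ?_ m
    rw [← mem_bot, ← h1]
    exact ⟨a, ha, rfl⟩
  -- an atom
  obtain ⟨B, ⟨hBA, hB1, hBe⟩, hmin⟩ : ∃ B : Subgroup (C ⧸ N), (B ≤ A.map π ∧ B ≠ ⊥ ∧
      (cv M (B : Set (C ⧸ N))).index = Nat.card B) ∧ ∀ B' : Subgroup (C ⧸ N), (B' ≤ A.map π ∧ B' ≠ ⊥ ∧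
      (cv M (B' : Set (C ⧸ N))).index = Nat.card B') → B' ≤ B → B' = B := by
    obtain ⟨B, hB⟩ := (Set.toFinite {B : Subgroup (C ⧸ N) | B ≤ A.map π ∧ B ≠ ⊥ ∧
      (cv M (B : Set (C ⧸ N))).index = Nat.card B}).exists_minimal ⟨A.map π, le_rfl, hA1, hex⟩
    exact ⟨B, hB.prop, fun B' hB' hle => le_antisymm hle (hB.le_of_le hB' hle)⟩
  refine ⟨C ⧸ N, inferInstance, inferInstance, inferInstance, T.map π, B, ?_⟩
  refine InpQ.mk hTQ (Atom.mk (fun a ha => hel a (hBA ha)) hB1 hBe ?_) hfaith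
    (pair_map hπ he h.two h.syl h.pair) (hBA.trans hx) (hBA.trans hy) hKH
  intro B' hB' hB1' hne
  refine lt_of_le_of_ne (hno B' (hB'.trans hBA)) fun h1 => hne ?_
  exact hmin B' ⟨hB'.trans hBA, hB1', h1.symm⟩ hB'

end pre

end Cfsg.Agent.Omega.KL.Q.Pre

end

section


/-!
# THEOREM KLQ without FIX: the plug at group level (helper176; rows (7) and (8))

`GInQ T C N Z X Y A` : `C` acts on `M := N / Z` (`N` elementary abelian, `Z ≤ X, Y ≤ N`, `Z` centralised by `C`), `T` a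
Sylow 2-subgroup of `C`.

* **`GInQ.pre`** : `DefG.PreG` for `C` acting on `N / Z`.
-/

set_option autoImplicit false
set_option maxHeartbeats 400000

namespace Cfsg.Agent.Omega.KL.Q.PlugGG

open Subgroup Cfsg Cfsg.Agent.ZN
open Cfsg.Agent.ClassTwoFusion.Quad Cfsg.Agent.Omega.ML.MinFrame
open Cfsg.Agent.MinSimple.MinParabolic (IsMinPar)
open Cfsg.Agent.MinSimple.VModule (o2_isPGroup o2_le le_o2 le_normalizer_o2 o2_le_of_sylow)
open Cfsg.Agent.Omega.KL.PlugG (comm_of_sq minPar_map sub_o2)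
open Cfsg.Agent.Omega.KL.Q.Def (nrm mem_nrm)

universe u

variable {G : Type u} [Group G]

/-- **The input `(Gq)` at group level** -/
structure GInQ (T C N Z X Y A : Subgroup G) : Prop where
  TC : T ≤ C
  two : IsPGroup 2 T
  syl : ¬ 2 ∣ T.relIndex C
  sq : ∀ n ∈ N, n * n = 1
  CN : C ≤ normalizer (N : Set G)
  CZ : ∀ c ∈ C, ∀ z ∈ Z, c * z = z * c
  ZX : Z ≤ X
  ZY : Z ≤ Y
  XN : X ≤ N
  YN : Y ≤ N
  Y4 : 4 ≤ Z.relIndex Y
  XY : X ⊓ Y ≤ Z
  nX : C ⊓ normalizer (T : Set G) ≤ normalizer (X : Set G)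
  nY : C ⊓ normalizer (T : Set G) ≤ normalizer (Y : Set G)
  tY : ∀ t ∈ T, ∀ w ∈ Y, t * w * t⁻¹ * w⁻¹ ∈ Z
  sX : ∀ m ∈ X, m ∉ Z → ∀ c ∈ C, c * m * c⁻¹ * m⁻¹ ∈ Z → c ∈ normalizer (X : Set G)
  sY : ∀ v ∈ Y, v ∉ Z → ∀ c ∈ C, c * v * c⁻¹ * v⁻¹ ∈ Z → c ∈ normalizer (Y : Set G)
  u1 : ∀ P : Subgroup G, IsMinPar T P → P ≤ C → ∀ m ∈ X, (∀ t ∈ T, t * m * t⁻¹ * m⁻¹ ∈ Z) →
    (∃ p ∈ P, p * m * p⁻¹ * m⁻¹ ∉ Z) → ∀ p ∈ P, ∀ w ∈ Y, p * w * p⁻¹ * w⁻¹ ∈ Z
  u2 : ∀ P : Subgroup G, IsMinPar T P → P ≤ C → ¬ P ≤ normalizer (X : Set G) →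
    (∀ p ∈ P, ∀ w ∈ Y, p * w * p⁻¹ * w⁻¹ ∈ Z) ∧ ∃ V : Subgroup G, X ≤ V ∧ V ≤ N ∧ P ≤ normalizer (V : Set G) ∧
      V ⊓ Y ≤ Z ∧ ∀ v ∈ V, ∀ w ∈ V, v ∉ Z → w ∉ Z → ∃ p ∈ P, p * v * p⁻¹ * w⁻¹ ∈ Z
  ex : ∃ m ∈ X, m ∉ Z ∧ ∀ t ∈ T, t * m * t⁻¹ * m⁻¹ ∈ Z
  gen : ∀ m ∈ X, m ∉ Z → (∀ t ∈ T, t * m * t⁻¹ * m⁻¹ ∈ Z) → ∀ U : Subgroup G, m ∈ U → Y ≤ U →
    C ≤ normalizer (U : Set G) → N ≤ U
  pair : ∀ ζ ∈ C, ζ ∈ normalizer (T : Set G) → ∀ O : Set G, (∀ w ∈ O, ∃ g ∈ C, ∃ m ∈ X, g * m * g⁻¹ = w) →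
    Y ≤ closure O ⊔ Z →
    (∀ t ∈ T, ∀ w ∈ O, (ζ * t * ζ⁻¹ * t⁻¹) * w * (ζ * t * ζ⁻¹ * t⁻¹)⁻¹ * w⁻¹ ∈ Z) →
    ∀ w ∈ Y, ζ * w * ζ⁻¹ * w⁻¹ ∈ Z
  el : ∀ a ∈ A, a * a = 1
  Ax : A ≤ o2 (C ⊓ normalizer (X : Set G))
  Ay : A ≤ o2 (C ⊓ normalizer (Y : Set G))
  mv : ¬ A ≤ centralizer (N : Set G)
  kerA : ∀ a ∈ A, (∀ n ∈ N, a * n * a⁻¹ * n⁻¹ ∈ Z) → a ∈ centralizer (N : Set G)
  exact : (centralizer (A : Set G)).relIndex N ≤ (centralizer (N : Set G)).relIndex A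
  KC : IsKGroup C

theorem mem_nor_of {X : Subgroup G} {C : Subgroup G} (h : ∀ c ∈ C, ∀ x ∈ X, c * x * c⁻¹ ∈ X) :
    C ≤ normalizer (X : Set G) := by
  intro c hc
  rw [mem_normalizer_iff]
  intro x
  refine ⟨h c hc x, fun hx => ?_⟩
  have h1 := h c⁻¹ (inv_mem hc) _ hx
  have e : c⁻¹ * (c * x * c⁻¹) * c⁻¹⁻¹ = x := by group
  rwa [e] at h1

namespace GInQ

variable [Finite G] {T C N Z X Y A : Subgroup G} (h : GInQ T C N Z X Y A)
include h

/-- **the input of THEOREM KLQ** -/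
theorem pre : ∃ (M : Type u) (_ : Group M) (_ : Finite M) (_ : MulDistribMulAction C M) (X' Y' : Subgroup M),
    DefG.PreG (T.subgroupOf C) (A.subgroupOf C) X' Y' := by
  have hZN : Z ≤ N := h.ZX.trans h.XN
  have hCZc : ∀ c ∈ C, ∀ z ∈ Z, c * z * c⁻¹ = z := by
    intro c hc z hz
    rw [h.CZ c hc z hz, mul_inv_cancel_right]
  have hCZ : C ≤ normalizer (Z : Set G) := mem_nor_of fun c hc z hz => by rw [hCZc c hc z hz]; exact hz
  have hcN : ∀ a ∈ N, ∀ b ∈ N, a * b = b * a := fun a ha b hb => comm_of_sq h.sq ha hb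
  have hnor : (Z.subgroupOf N).Normal := by
    refine normal_subgroupOf_of_le_normalizer (mem_nor_of fun n hn z hz => ?_)
    rwa [hcN n hn z (hZN hz), mul_inv_cancel_right]
  let _ := ML.Final.conjAct h.CN hCZ
  let mk : N →* N ⧸ Z.subgroupOf N := QuotientGroup.mk' (Z.subgroupOf N)
  have hmk : Function.Surjective mk := QuotientGroup.mk'_surjective _
  have hmem : ∀ (g : C) (n : N), (g : G) * n * (g : G)⁻¹ ∈ N := fun g n =>
    (mem_normalizer_iff.1 (h.CN g.2) n).1 n.2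
  have hsm : ∀ (g : C) (n : N), g • mk n = mk ⟨(g : G) * n * (g : G)⁻¹, hmem g n⟩ := fun _ _ => rfl
  have hone : ∀ a b : N, mk a = mk b ↔ (a : G) * (b : G)⁻¹ ∈ Z := by
    intro a b
    rw [← mul_inv_eq_one, ← map_inv, ← map_mul, ← MonoidHom.mem_ker, QuotientGroup.ker_mk']
    exact Iff.rfl
  have hone' : ∀ a : N, mk a = 1 ↔ (a : G) ∈ Z := by
    intro a
    rw [← MonoidHom.mem_ker, QuotientGroup.ker_mk']
    exact Iff.rfl
  have hfix : ∀ (g : C) (n : N), g • mk n = mk n ↔ (g : G) * n * (g : G)⁻¹ * (n : G)⁻¹ ∈ Z := by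
    intro g n
    rw [hsm, hone]
  -- subgroups over `Z`
  have hsub : ∀ {W : Subgroup G}, Z ≤ W → ∀ a : N, (mk a ∈ (W.subgroupOf N).map mk ↔ (a : G) ∈ W) := by
    intro W hZW a
    constructor
    · rintro ⟨b, hb, hba⟩
      have h1 := (hone b a).1 hba
      have h2 : (a : G) = ((b : G) * (a : G)⁻¹)⁻¹ * b := by group
      rw [h2]
      exact mul_mem (inv_mem (hZW h1)) (mem_subgroupOf.1 hb)
    · intro ha
      exact ⟨a, mem_subgroupOf.2 ha, rfl⟩
  have hnrm : ∀ {W : Subgroup G}, Z ≤ W → W ≤ N → ∀ c : C,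
      (c ∈ nrm C ((W.subgroupOf N).map mk) ↔ (c : G) ∈ C ⊓ normalizer (W : Set G)) := by
    intro W hZW hWN c
    rw [mem_nrm, mem_inf]
    constructor
    · intro hc
      refine ⟨c.2, ?_⟩
      rw [mem_normalizer_iff]
      intro n
      constructor
      · intro hn
        have h1 := (hc (mk ⟨n, hWN hn⟩)).2 ((hsub hZW _).2 hn)
        rw [hsm, hsub hZW] at h1
        exact h1
      · intro hn
        have hnN : n ∈ N := (mem_normalizer_iff.1 (h.CN c.2) n).2 (hWN hn)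
        have h1 := (hc (mk ⟨n, hnN⟩)).1 (by rw [hsm, hsub hZW]; exact hn)
        exact (hsub hZW _).1 h1
    · rintro ⟨-, hc⟩ m
      obtain ⟨n, rfl⟩ := hmk m
      rw [hsm, hsub hZW, hsub hZW]
      exact (mem_normalizer_iff.1 hc n).symm
  have hZV : ∀ {W : Subgroup G}, Z ≤ W → ∀ {c : C}, (c : G) ∈ normalizer (W : Set G) → W ≤ N →
      c ∈ nrm C ((W.subgroupOf N).map mk) := fun hZW _ hc hWN => (hnrm hZW hWN _).2 (mem_inf.2 ⟨SetLike.coe_mem _, hc⟩)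
  set X' : Subgroup (N ⧸ Z.subgroupOf N) := (X.subgroupOf N).map mk with hX'
  set Y' : Subgroup (N ⧸ Z.subgroupOf N) := (Y.subgroupOf N).map mk with hY'
  have hfxY : ∀ c : C, (c ∈ fxr C Y' ↔ ∀ w ∈ Y, (c : G) * w * (c : G)⁻¹ * w⁻¹ ∈ Z) := by
    intro c
    rw [mem_fxr]
    constructor
    · intro hc w hw
      exact (hfix c ⟨w, h.YN hw⟩).1 (hc _ ((hsub h.ZY _).2 hw))
    · rintro hc _ ⟨w, hw, rfl⟩
      exact (hfix c w).2 (hc w (mem_subgroupOf.1 hw))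
  have hcom : ∀ {a b : G}, a * b = b * a → a * b * a⁻¹ * b⁻¹ ∈ Z := by
    intro a b e
    rw [e, mul_inv_cancel_right, mul_inv_cancel]
    exact one_mem _
  have hnT : ∀ g ∈ normalizer (T.subgroupOf C : Set C), (g : G) ∈ C ⊓ normalizer (T : Set G) := by
    intro g hg
    refine mem_inf.2 ⟨g.2, ?_⟩
    rw [mem_normalizer_iff]
    intro t
    constructor
    · intro ht
      exact (mem_normalizer_iff.1 hg ⟨t, h.TC ht⟩).1 ht
    · intro ht
      have h1 : (g : G)⁻¹ * ((g : G) * t * (g : G)⁻¹) * (g : G)⁻¹⁻¹ ∈ T :=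
        (mem_normalizer_iff.1 (inv_mem hg) ⟨(g : G) * t * (g : G)⁻¹, h.TC ht⟩).1 ht
      have e : (g : G)⁻¹ * ((g : G) * t * (g : G)⁻¹) * (g : G)⁻¹⁻¹ = t := by group
      rwa [e] at h1
  have hTfix : ∀ n : N, ((∀ t ∈ T.subgroupOf C, t • mk n = mk n) ↔ ∀ t ∈ T, t * (n : G) * t⁻¹ * (n : G)⁻¹ ∈ Z) := by
    intro n
    constructor
    · intro h1 t ht
      exact (hfix ⟨t, h.TC ht⟩ n).1 (h1 _ (mem_subgroupOf.2 ht))
    · intro h1 t ht
      exact (hfix t n).2 (h1 t (mem_subgroupOf.1 ht))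
  have hsylR : ∀ {R : Subgroup G}, T ≤ R → R ≤ C → ¬ 2 ∣ T.relIndex R := fun {R} h1 h2 h3 =>
    h.syl (h3.trans (Dvd.intro _ (relIndex_mul_relIndex T R C h1 h2)))
  have hTX : T ≤ C ⊓ normalizer (X : Set G) := le_inf h.TC fun t ht =>
    h.nX (mem_inf.2 ⟨h.TC ht, Subgroup.le_normalizer ht⟩)
  have hAT : A ≤ T := h.Ax.trans (o2_le_of_sylow h.two (hsylR hTX inf_le_left))
  have hAC : A ≤ C := hAT.trans h.TC
  have hfxr : (fxr C (⊤ : Subgroup (N ⧸ Z.subgroupOf N))).relIndex (A.subgroupOf C) =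
      (centralizer (N : Set G)).relIndex A := by
    have e : fxr C (⊤ : Subgroup (N ⧸ Z.subgroupOf N)) ⊓ A.subgroupOf C =
        (centralizer (N : Set G)).subgroupOf C ⊓ A.subgroupOf C := by
      ext c
      simp only [mem_inf]
      constructor
      · rintro ⟨h1, h2⟩
        refine ⟨mem_subgroupOf.2 (h.kerA c (mem_subgroupOf.1 h2) fun n hn => ?_), h2⟩
        exact (hfix c ⟨n, hn⟩).1 (h1 _ (mem_top _))
      · rintro ⟨h1, h2⟩
        refine ⟨fun m _ => ?_, h2⟩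
        obtain ⟨n, rfl⟩ := hmk m
        exact (hfix c n).2 (hcom (mem_centralizer_iff.1 (mem_subgroupOf.1 h1) n n.2).symm)
    rw [← inf_relIndex_right, e, inf_relIndex_right, relIndex_subgroupOf hAC]
  have hcvle : (centralizer (A : Set G)).subgroupOf N ≤
      (cv (N ⧸ Z.subgroupOf N) (A.subgroupOf C : Set C)).comap mk := by
    intro n hn a ha
    refine (hfix a n).2 ?_
    exact hcom (mem_centralizer_iff.1 (mem_subgroupOf.1 hn) a (mem_subgroupOf.1 ha))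
  refine ⟨N ⧸ Z.subgroupOf N, inferInstance, inferInstance, inferInstance, X', Y', ?_⟩
  refine DefG.PreG.mk ?_ ?_ h.syl ?_ ?_ ?_ ?_ ?_ ?_ ?_ ?_ ?_ ?_ ?_ ?_ ?_ ?_ ?_ ?_ ?_ h.KC
  · -- sq
    intro m
    obtain ⟨n, rfl⟩ := hmk m
    rw [← map_mul, hone']
    have h1 : (n : G) * n = 1 := h.sq n n.2
    show ((n : G) * n : G) ∈ Z
    rw [h1]
    exact one_mem _
  · exact h.two.comap_of_injective C.subtype C.subtype_injective
  · -- Y4
    have h1 : mk.ker = Z.subgroupOf N := QuotientGroup.ker_mk' _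
    have h2 : Nat.card Y' = Z.relIndex Y := by
      rw [hY', ← relIndex_ker, h1, relIndex_subgroupOf h.YN]
    rw [h2]
    exact h.Y4
  · -- XY
    rw [eq_bot_iff]
    rintro m ⟨hm1, hm2⟩
    obtain ⟨n, rfl⟩ := hmk m
    rw [mem_bot, hone']
    exact h.XY (mem_inf.2 ⟨(hsub h.ZX n).1 hm1, (hsub h.ZY n).1 hm2⟩)
  · intro g hg
    exact (hnrm h.ZX h.XN g).2 (mem_inf.2 ⟨g.2, h.nX (hnT g hg)⟩)
  · intro g hg
    exact (hnrm h.ZY h.YN g).2 (mem_inf.2 ⟨g.2, h.nY (hnT g hg)⟩)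
  · intro t ht
    exact (hfxY t).2 (h.tY t (mem_subgroupOf.1 ht))
  · rintro _ ⟨m, hm, rfl⟩ hm1 c hc
    have h1 : (m : G) ∉ Z := fun e => hm1 ((hone' m).2 e)
    rw [MulAction.mem_stabilizer_iff, hfix] at hc
    exact (hnrm h.ZX h.XN c).2 (mem_inf.2 ⟨c.2, h.sX m (mem_subgroupOf.1 hm) h1 c c.2 hc⟩)
  · rintro _ ⟨m, hm, rfl⟩ hm1 c hc
    have h1 : (m : G) ∉ Z := fun e => hm1 ((hone' m).2 e)
    rw [MulAction.mem_stabilizer_iff, hfix] at hc
    exact (hnrm h.ZY h.YN c).2 (mem_inf.2 ⟨c.2, h.sY m (mem_subgroupOf.1 hm) h1 c c.2 hc⟩)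
  · -- u1
    rintro P hP _ ⟨m, hm, rfl⟩ hT ⟨p, hp, hpm⟩
    have h1 := h.u1 _ (minPar_map h.TC hP) (map_subtype_le P) m (mem_subgroupOf.1 hm) ((hTfix m).1 hT)
      ⟨p, mem_map_of_mem C.subtype hp, fun e => hpm ((hfix p m).2 e)⟩
    intro p hp
    exact (hfxY p).2 (h1 p (mem_map_of_mem C.subtype hp))
  · -- u2
    intro P hP hPX
    have hPX' : ¬ P.map C.subtype ≤ normalizer (X : Set G) := fun e => hPX fun p hp =>
      (hnrm h.ZX h.XN p).2 (mem_inf.2 ⟨p.2, e (mem_map_of_mem C.subtype hp)⟩)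
    obtain ⟨h1, V, hXV, hVN, hPV, hVY, htr⟩ := h.u2 _ (minPar_map h.TC hP) (map_subtype_le P) hPX'
    have hZV : Z ≤ V := h.ZX.trans hXV
    refine ⟨fun p hp => (hfxY p).2 (h1 p (mem_map_of_mem C.subtype hp)), (V.subgroupOf N).map mk, ?_, ?_, ?_, ?_⟩
    · rintro _ ⟨x, hx, rfl⟩
      exact (hsub hZV x).2 (hXV (mem_subgroupOf.1 hx))
    · intro p hp
      exact (hnrm hZV hVN p).2 (mem_inf.2 ⟨p.2, hPV (mem_map_of_mem C.subtype hp)⟩)
    · rw [eq_bot_iff]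
      rintro m ⟨hm1, hm2⟩
      obtain ⟨n, rfl⟩ := hmk m
      rw [mem_bot, hone']
      exact hVY (mem_inf.2 ⟨(hsub hZV n).1 hm1, (hsub h.ZY n).1 hm2⟩)
    · intro v hv w hw hv1 hw1
      obtain ⟨v, rfl⟩ := hmk v
      obtain ⟨w, rfl⟩ := hmk w
      obtain ⟨p, ⟨p', hp', rfl⟩, hpv⟩ := htr v ((hsub hZV v).1 hv) w ((hsub hZV w).1 hw)
        (fun e => hv1 ((hone' v).2 e)) (fun e => hw1 ((hone' w).2 e))
      refine ⟨p', hp', ?_⟩
      rw [hsm, hone]
      exact hpv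
  · -- ex
    obtain ⟨m, hm, hmZ, hT⟩ := h.ex
    refine ⟨mk ⟨m, h.XN hm⟩, (hsub h.ZX _).2 hm, fun e => hmZ ((hone' _).1 e), (hTfix _).2 hT⟩
  · -- gen
    rintro _ ⟨m, hm, rfl⟩ hm1 hT U hmU hYU hCU
    set U' : Subgroup G := (U.comap mk).map N.subtype with hU'
    have hUmem : ∀ a : N, (a : G) ∈ U' ↔ mk a ∈ U := by
      intro a
      constructor
      · rintro ⟨b, hb, hba⟩
        rw [← (Subtype.ext hba : b = a)]
        exact hb
      · exact fun ha => ⟨a, ha, rfl⟩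
    have h1 : N ≤ U' := by
      refine h.gen m (mem_subgroupOf.1 hm) (fun e => hm1 ((hone' m).2 e)) ((hTfix m).1 hT) U' ((hUmem m).2 hmU) ?_ ?_
      · intro w hw
        exact (hUmem ⟨w, h.YN hw⟩).2 (hYU ((hsub h.ZY _).2 hw))
      · refine mem_nor_of ?_
        rintro g hg _ ⟨b, hb, rfl⟩
        have h2 := hCU ⟨g, hg⟩ _ hb
        rw [hsm ⟨g, hg⟩ b] at h2
        exact (hUmem ⟨_, hmem ⟨g, hg⟩ b⟩).2 h2
    rw [eq_top_iff]
    intro m _
    obtain ⟨n, rfl⟩ := hmk m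
    exact (hUmem n).1 (h1 n.2)
  · -- pair
    intro ζ hζ O hO hYO hT
    have hζ' := hnT ζ hζ
    rw [hfxY]
    set O' : Set G := {w | (∃ g ∈ C, ∃ m ∈ X, g * m * g⁻¹ = w) ∧ ∃ n : N, (n : G) = w ∧ mk n ∈ O} with hOd
    refine h.pair ζ hζ'.1 hζ'.2 O' (fun w hw => hw.1) ?_ ?_
    · -- `Y ≤ closure O' ⊔ Z`
      have hO'N : closure O' ≤ N := by
        rw [closure_le]
        rintro w ⟨-, n, rfl, -⟩
        exact n.2
      have hSN : closure O' ⊔ Z ≤ N := sup_le hO'N hZN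
      have h1 : closure O ≤ ((closure O' ⊔ Z).subgroupOf N).map mk := by
        rw [closure_le]
        intro w hw
        obtain ⟨g, _, ⟨m, hm, rfl⟩, hgm⟩ := hO w hw
        rw [← hgm, hsm]
        refine ⟨_, ?_, rfl⟩
        refine mem_subgroupOf.2 (mem_sup_left (subset_closure ⟨⟨g, g.2, m, mem_subgroupOf.1 hm, rfl⟩, ⟨_, hmem g m⟩, rfl, ?_⟩))
        rw [← hsm, hgm]
        exact hw
      intro y hy
      have h2 := h1 (hYO ((hsub h.ZY ⟨y, h.YN hy⟩).2 hy))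
      exact (hsub le_sup_right _).1 h2
    · rintro t ht w ⟨-, n, rfl, hn⟩
      obtain ⟨c, hc⟩ : ∃ c : C, (c : G) = t := ⟨⟨t, h.TC ht⟩, rfl⟩
      have h1 := hT c (mem_subgroupOf.2 (hc ▸ ht)) (mk n) hn
      have h2 := (hfix (ζ * c * ζ⁻¹ * c⁻¹) n).1 h1
      have e : ((ζ * c * ζ⁻¹ * c⁻¹ : C) : G) = (ζ : G) * t * (ζ : G)⁻¹ * t⁻¹ := by rw [← hc]; rfl
      rwa [e] at h2
  · intro a ha
    exact Subtype.ext (h.el a (mem_subgroupOf.1 ha))
  · exact sub_o2 (hnrm h.ZX h.XN) h.Ax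
  · exact sub_o2 (hnrm h.ZY h.YN) h.Ay
  · by_contra hcon
    push Not at hcon
    apply h.mv
    intro a ha
    refine h.kerA a ha fun n hn => ?_
    exact (hfix ⟨a, hAC ha⟩ ⟨n, hn⟩).1 (hcon ⟨a, hAC ha⟩ (mem_subgroupOf.2 ha) (mk ⟨n, hn⟩))
  · rw [hfxr, ← index_comap_of_surjective _ hmk]
    exact (index_antitone hcvle).trans h.exact

end GInQ

end Cfsg.Agent.Omega.KL.Q.PlugGG

end
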