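import Cfsg.Agent.Mrg.Omega.KL.Q.ExG
import Cfsg.Agent.Mrg.Omega.NO3S.EThree.TPlug
import Cfsg.Agent.Mrg.Omega.ML.MinIrr


/-!
# The exact group of THEOREM KLQ over the frame `Bg` (all `q`, every level)

Two blocks over 186's frame `Bg S P B ZJ L W Z C q`, a partner pair `Pa S W i j s`, `TI (Z i)`, `NonLoc`, `ML.Final.MLK`:

* `tr_pt` : `C_P(C i) ∩ N(Z i)` is transitive on `Z i - 1`;
* `NN_sq`, `U_le_NN` (`W i ≤ N_j`);
* `noP` : (NO) for `Q_a` on `N_u`; `noZV` : (NO) for the elementary abelian subgroups of `Q_j ∩ C(W i)` on `⟨Z_j ^ C(W i)⟩`;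
* `core_sq'` : `O₂(H_j/C(N_j)) = 1`;
* `In_of` : `ExG.In` from `gen : N(Z j) ≤ ⟨N(Z j) ∩ N(W i), N(Z j) ∩ N(Z i)⟩`; `exists_ex` : the exact group.
-/

set_option autoImplicit false
set_option linter.unusedSectionVars false

namespace Cfsg.Agent.Omega.KL.Q.ExBg

open Subgroup Cfsg Cfsg.Agent.ZN.ChoiceBase
open Cfsg.Agent.ZN (jj zj bau zc zl o2)
open Cfsg.Agent.ZN.ChoiceSit (Syl exists_syl syl_conj syl_not_dvd)
open Cfsg.Agent.Omega.OM Cfsg.Agent.Omega.OM.Uni
open Cfsg.Agent.Omega.OM.PG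
open Cfsg.Agent.Omega.NO3S.EThree.Frame
open Cfsg.Agent.Omega.NO3S.EThree.ExactA (NoP eab_iff)
open Cfsg.Agent.Omega.MinPar (NonLoc)
open Cfsg.Agent.Omega.NoFF.Basic (conj_conj V_le)
open scoped Pointwise

universe u

variable {G : Type u} [Group G]

/-- A 2-group normalising a nontrivial elementary abelian 2-group has a nontrivial fixed element. -/
theorem exists_fixed [Finite G] {X E : Subgroup G} (hX : IsPGroup 2 X) (hE : IsPGroup 2 E) (hE1 : E ≠ ⊥)
    (hN : X ≤ normalizer (E : Set G)) : ∃ e ∈ E, e ≠ 1 ∧ ∀ x ∈ X, x * e * x⁻¹ = e := by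
  have : Fact (Nat.Prime 2) := ⟨Nat.prime_two⟩
  let _ : MulAction X E :=
    { smul := fun x e => ⟨(x : G) * e * (x : G)⁻¹, (mem_normalizer_iff.1 (hN x.2) e).1 e.2⟩
      one_smul := fun e => Subtype.ext (by show (1 : G) * e * (1 : G)⁻¹ = e; group)
      mul_smul := fun x y e => Subtype.ext (by
        show ((x : G) * y) * e * ((x : G) * y)⁻¹ = x * (y * e * (y : G)⁻¹) * (x : G)⁻¹
        group) }
  have h1 : (1 : E) ∈ MulAction.fixedPoints X E := by
    intro x
    exact Subtype.ext (by show (x : G) * 1 * (x : G)⁻¹ = 1; group)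
  have h2 : 2 ∣ Nat.card E := by
    rcases hE.card_eq_or_dvd with h | h
    · exact absurd (card_eq_one.1 h) hE1
    · exact h
  obtain ⟨e, he, hne⟩ := hX.exists_fixed_point_of_prime_dvd_card_of_fixed_point E h2 h1
  exact ⟨e, e.2, fun h => hne (Subtype.ext h.symm), fun x hx => congrArg Subtype.val (he ⟨x, hx⟩)⟩

theorem ti_mem {Z : Subgroup G} (h : TI Z) {g x : G} (hx : x ∈ Z) (hx1 : x ≠ 1) (hg : g * x * g⁻¹ ∈ Z) :
    g ∈ normalizer (Z : Set G) := by
  rw [mem_normalizer_iff_cj]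
  apply h
  intro hbot
  have h2 : g * x * g⁻¹ ∈ cj g Z ⊓ Z := ⟨⟨x, hx, rfl⟩, hg⟩
  rw [hbot, mem_bot] at h2
  exact hx1 (conj_eq_one_iff.1 h2)

theorem ti_cj {Z : Subgroup G} (h : TI Z) (s : G) : TI (cj s Z) := by
  intro g hg
  have h1 : cj (s⁻¹ * (g * s)) Z ⊓ Z ≠ ⊥ := by
    intro e
    apply hg
    have h2 := congrArg (cj s) e
    rw [cj_inf, cj_cj, mul_inv_cancel_left] at h2
    rw [cj_cj, h2]
    exact map_bot _
  have h3 := congrArg (cj s) (h _ h1)
  rw [cj_cj, mul_inv_cancel_left] at h3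
  rw [cj_cj]
  exact h3

section one

variable [Finite G] {S : Sylow 2 G} {P : Subgroup G} {ι : Type} {B ZJ : Subgroup G}
  {L W Z C : ι → Subgroup G} {q : ℕ} (h : Bg S P B ZJ L W Z C q)
include h

/-- `C_P(C i) ∩ N(Z i)` is transitive on `Z i - 1`. -/
theorem tr_pt (i : ι) {z z' : G} (hz : z ∈ Z i) (hz1 : z ≠ 1) (hz' : z' ∈ Z i) (hz1' : z' ≠ 1) :
    ∃ g ∈ P, g ∈ centralizer (C i : Set G) ∧ g ∈ normalizer (Z i : Set G) ∧ g * z * g⁻¹ = z' := by
  have hb := h.fr.blk i
  have hq1 : 1 < q := hb.one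
  rcases Nat.lt_or_ge 2 q with hq | hq
  · obtain ⟨v, hv, hvZ⟩ : ∃ v ∈ W i, v ∉ Z i := by
      by_contra hcon
      push Not at hcon
      have h1 := Subgroup.card_le_of_le (show W i ≤ Z i from hcon)
      rw [hb.card, h.fr.cardZ i] at h1
      nlinarith
    obtain ⟨b, hbB, -, e1⟩ := h.root i v hv hvZ z' hz'
    have hb1 : ¬ ∀ u ∈ W i, b * u = u * b := by
      intro hcon
      apply hz1'
      rw [← e1, hcon v hv]
      group
    -- `β : W i → Z i`, `w ↦ [b, w]`, is onto
    let β : W i →* Z i :=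
      { toFun := fun w => ⟨b * w * b⁻¹ * (w : G)⁻¹, hb.com b hbB w w.2⟩
        map_one' := Subtype.ext (by simp)
        map_mul' := fun x y => Subtype.ext (by
          change b * ((x : G) * y) * b⁻¹ * ((x : G) * y)⁻¹ = (b * x * b⁻¹ * (x : G)⁻¹) * (b * y * b⁻¹ * (y : G)⁻¹)
          have e2 : b * ((x : G) * y) * b⁻¹ * ((x : G) * y)⁻¹ =
              (b * x * b⁻¹) * (b * y * b⁻¹ * (y : G)⁻¹) * (x : G)⁻¹ := by group
          have h3 := hb.comm (hb.ZV (hb.com b hbB y y.2)) (inv_mem x.2)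
          rw [e2, mul_assoc, h3]
          group) }
    have hk : Nat.card β.ker ≤ q := by
      rw [← h.fr.cardZ i]
      refine Nat.card_le_card_of_injective (fun x : β.ker => (⟨((x : W i) : G), ?_⟩ : Z i)) ?_
      · have h2 : b * ((x : W i) : G) * b⁻¹ * ((x : W i) : G)⁻¹ = 1 := congrArg Subtype.val (x.2)
        exact hb.toMd.mem_Z hbB hb1 (x : W i).2 (mul_inv_eq_iff_eq_mul.1 (mul_inv_eq_one.1 h2))
      · intro x y e
        exact Subtype.ext (Subtype.ext (congrArg (fun t : Z i => (t : G)) e))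
    have hsurj : Function.Surjective β := by
      rw [← MonoidHom.range_eq_top]
      apply Subgroup.eq_top_of_le_card
      have h3 : Nat.card β.range * Nat.card β.ker = Nat.card (W i) := by
        rw [mul_comm, ← Subgroup.index_ker, Subgroup.card_mul_index]
      rw [hb.card] at h3
      have h4 : Nat.card (Z i) * q ≤ Nat.card β.range * q := h3 ▸ Nat.mul_le_mul_left _ hk
      exact Nat.le_of_mul_le_mul_right h4 (by omega)
    obtain ⟨v', hv'⟩ := hsurj ⟨z, hz⟩
    have e2 : b * (v' : G) * b⁻¹ * (v' : G)⁻¹ = z := congrArg Subtype.val hv'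
    have hvZ' : (v' : G) ∉ Z i := by
      intro hcon
      apply hz1
      rw [← e2, hb.cZ b hbB _ hcon]
      group
    obtain ⟨g, hgP, hgC, hgZ, h5, h6, -⟩ := (h.scal hq i).ex v hv hvZ v' v'.2 hvZ'
    refine ⟨g, hgP, hgC, hgZ, ?_⟩
    have h7 := h5 b hbB v hv
    rw [e1] at h7
    have h8 : b * (g * v * g⁻¹) * b⁻¹ * (g * v * g⁻¹)⁻¹ = z := by
      obtain ⟨ζ, hζ, e3⟩ : ∃ ζ ∈ Z i, g * v * g⁻¹ = v' * ζ := ⟨_, h6, by group⟩
      rw [e3]
      have h9 := hb.cZ b hbB ζ hζ
      calc b * (v' * ζ) * b⁻¹ * (v' * ζ)⁻¹ = b * v' * (ζ * b⁻¹) * ζ⁻¹ * (v' : G)⁻¹ := by group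
        _ = b * v' * (b⁻¹ * ζ) * ζ⁻¹ * (v' : G)⁻¹ := by
          have : ζ * b⁻¹ = b⁻¹ * ζ := by
            rw [eq_inv_mul_iff_mul_eq, ← mul_assoc, h9, mul_inv_cancel_right]
          rw [this]
        _ = b * v' * b⁻¹ * (v' : G)⁻¹ := by group
        _ = z := e2
    rw [h8] at h7
    rw [h7]
    group
  · have hq2 : q = 2 := by omega
    refine ⟨1, one_mem _, one_mem _, one_mem _, ?_⟩
    have h2 : Nat.card (Z i) = 2 := (h.fr.cardZ i).trans hq2
    obtain ⟨c, hc, hcu⟩ := (Nat.card_eq_two_iff' (1 : Z i)).1 h2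
    have hall : ∀ x ∈ Z i, x ≠ 1 → x = (c : G) := fun x hx e =>
      congrArg Subtype.val (hcu ⟨x, hx⟩ fun e' => e (congrArg Subtype.val e'))
    rw [hall z hz hz1, hall z' hz' hz1']
    group

theorem ne_top {i j : ι} (hnl : NonLoc (normalizer (Z i : Set G)) (normalizer (Z j : Set G))) :
    normalizer (Z j : Set G) ≠ ⊤ := fun e =>
  h.Z_ne j (hnl (Z j) (h.Z_two j) (e ▸ le_top) le_rfl)

theorem ne_top' {i j : ι} (hnl : NonLoc (normalizer (Z i : Set G)) (normalizer (Z j : Set G))) :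
    normalizer (Z i : Set G) ≠ ⊤ := fun e =>
  h.Z_ne i (hnl (Z i) (h.Z_two i) le_rfl (e ▸ le_top))

end one

section two

variable [Finite G] {S : Sylow 2 G} {P : Subgroup G} {ι : Type} {B ZJ : Subgroup G}
  {L W Z C : ι → Subgroup G} {q : ℕ} (h : Bg S P B ZJ L W Z C q) {i j : ι} {s : G} (p : Pa (S : Subgroup G) W i j s)
include h p

theorem Z1_le_C : Z j ≤ C i := (h.fr.blk j).ZV.trans (h.fr.WjC i j p.ne)

theorem Z0_le_C : Z i ≤ C j := (h.fr.blk i).ZV.trans (h.fr.WjC j i p.ne.symm)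

variable [Finite ι] (hTI : TI (Z i)) (hnl : NonLoc (normalizer (Z i : Set G)) (normalizer (Z j : Set G)))
include hTI

theorem TI_j : TI (Z j) := by
  rw [← h.cj_s_Z p]
  exact ti_cj hTI s

include hnl

theorem NN_sq {a : Subgroup G} (ha : IsPt ![Z i, Z j] a) : ∀ x ∈ NN ![Z i, Z j] a, x ^ 2 = 1 := by
  have PP' := h.toPP p hTI hnl
  refine NoFF.Lines.Geo.sq_of_comm (PP'.NN_comm ha) (ι := {u : Subgroup G // Adj ![Z i, Z j] a u})
    (B := fun u => (u : Subgroup G)) (fun u => u.2.le_NN) ?_ fun u => PP'.ZsqConj (PP'.adj_pt u.2)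
  exact sSup_le fun u hu => le_iSup (fun u : {u : Subgroup G // Adj ![Z i, Z j] a u} => (u : Subgroup G)) ⟨u, hu⟩

/-- `W i ≤ N_j` -/
theorem U_le_NN : W i ≤ NN ![Z i, Z j] (Z j) := by
  have PP' := h.toPP p hTI hnl
  have hA : Adj ![Z i, Z j] (Z i) (Z j) := ⟨1, by rw [map_one, one_smul]; rfl, by rw [map_one, one_smul]; rfl⟩
  have hA' : Adj ![Z i, Z j] (Z j) (Z i) := PP'.adj_symm hA
  intro x hx
  by_cases hx1 : x = 1
  · rw [hx1]; exact one_mem _
  obtain ⟨l, -, hlc, y, hy, e⟩ := h.tr i x hx hx1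
  have h1 := hA'.conj l
  rw [show MulAut.conj l • Z j = Z j from mem_normalizer_iff_cj.1
    (centralizer_le_normalizer _ (centralizer_le (Z1_le_C h p) hlc))] at h1
  apply h1.le_NN
  rw [← e]
  exact ⟨y, hy, rfl⟩

/-- `(NO)` for `Q_i` on `N_j` -/
theorem noP0 (hML : ML.Final.MLK.{u, u}) {A : Subgroup G}
    (hA2 : IsElementaryAbelian 2 A) (hAQ : A ≤ o2 (normalizer (Z i : Set G))) :
    (centralizer (NN ![Z i, Z j] (Z j) : Set G)).relIndex A ≤
      (centralizer (A : Set G)).relIndex (NN ![Z i, Z j] (Z j)) := by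
  have PP' := h.toPP p hTI hnl
  set Z' : Fin 2 → Subgroup G := ![Z i, Z j] with hZ'
  have hA : Adj Z' (Z i) (Z j) := ⟨1, by rw [map_one, one_smul]; rfl, by rw [map_one, one_smul]; rfl⟩
  have hA' : Adj Z' (Z j) (Z i) := PP'.adj_symm hA
  have hjp : IsPt Z' (Z j) := hA'.pt
  set N : Subgroup G := NN Z' (Z j) with hN
  have hTZ : (S : Subgroup G) ⊓ normalizer (Z i : Set G) ≤ normalizer (Z i : Set G) := inf_le_right
  obtain ⟨z, hz, hz1, hzT⟩ := exists_fixed (S.isPGroup'.to_le inf_le_left) (h.Z_two i) (h.Z_ne i) hTZ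
  have hnormz : ∀ g : G, g * z * g⁻¹ = z → g ∈ normalizer (Z i : Set G) := fun g hg =>
    ti_mem hTI hz hz1 (hg.symm ▸ hz)
  have hbot : normalizer ((⊥ : Subgroup G) : Set G) = ⊤ := normalizer_eq_top _
  have key := hML.grp (h.hyp.ctx.kproper _ (ne_top h hnl))
    (C := normalizer (Z j : Set G)) (W := N) (Y := ⊥)
    (T := (S : Subgroup G) ⊓ normalizer (Z j : Set G)) (Q := o2 (normalizer (Z i : Set G))) (A := A) (w := z)
    { nW := PG.PP.HH_le_NN (Z j)
      nY := by rw [hbot]; exact le_top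
      YW := bot_le
      WY := by rw [hbot]; exact le_top
      sq := fun x hx => by rw [← pow_two, NN_sq h p hTI hnl hjp x hx]; exact one_mem _
      mem := hA'.le_NN hz
      gen := by
        intro Y hzY _ hCY
        have hiY : Z i ≤ Y := fun x hx => by
          by_cases hx1 : x = 1
          · rw [hx1]; exact one_mem _
          obtain ⟨g, -, hgC, -, e⟩ := tr_pt h i hz hz1 hx hx1
          have h1 : g ∈ normalizer (Z j : Set G) :=
            centralizer_le_normalizer _ (centralizer_le (Z1_le_C h p) hgC)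
          rw [← e]
          exact (mem_normalizer_iff.1 (hCY h1) z).1 hzY
        refine sSup_le ?_
        rintro u ⟨k, hk, rfl⟩
        obtain ⟨t, ht0, ht1, -, -⟩ := PP'.swap
        have e1 : MulAut.conj k • Z' 1 = MulAut.conj (k * t) • Z i := by
          rw [← conj_conj]
          exact congrArg _ ht0.symm
        have e2 : MulAut.conj (k * t) • Z j = Z j := by
          rw [← conj_conj]
          exact (congrArg (fun X => MulAut.conj k • X) ht1).trans hk.symm
        have h3 : k * t ∈ normalizer (Z j : Set G) := mem_normalizer_iff_cj.2 e2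
        rw [e1]
        have h4 := cj_mono (k * t) hiY
        rwa [cj_eq_of_mem_normalizer (hCY h3)] at h4
      TC := inf_le_right
      two := S.isPGroup'.to_le inf_le_left
      odd := syl_not_dvd (h.syl j)
      fixT := fun t ht => by
        rw [h.T_eq p] at ht
        rw [hzT t ht, mul_inv_cancel]
        exact one_mem _
      QC := PP'.QQ_le_HH hA'
      Q2 := MinSimple.VModule.o2_isPGroup _
      fixQ := fun q hq => by
        have h1 := mem_centralizer_iff.1 (h.o2_cent i hq) z hz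
        rw [← h1, mul_inv_cancel_right, mul_inv_cancel]
        exact one_mem _
      nrmQ := fun g _ hg q hq => by
        have h1 : g * z * g⁻¹ = z := mul_inv_eq_one.1 (mem_bot.1 hg)
        exact (mem_normalizer_iff.1 (MinSimple.VModule.le_normalizer_o2 _ (hnormz g h1)) q).1 hq
      AQ := hAQ
      Asq := fun a ha x hx => by
        have h1 : a ^ 2 = 1 := hA2.2 a ha
        have e : a * (a * x * a⁻¹) * a⁻¹ * x⁻¹ = (a ^ 2) * x * (a ^ 2)⁻¹ * x⁻¹ := by simp [pow_two, mul_assoc]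
        rw [e, h1]
        simp }
    (KA := A ⊓ centralizer (N : Set G)) (CW := N ⊓ centralizer (A : Set G))
    (fun a => by
      rw [mem_inf, mem_centralizer_iff]
      refine and_congr_right fun _ => forall₂_congr fun x _ => ?_
      rw [mem_bot, mul_inv_eq_one, mul_inv_eq_iff_eq_mul]
      exact eq_comm)
    (fun x => by
      rw [mem_inf, mem_centralizer_iff]
      refine and_congr_right fun _ => forall₂_congr fun a _ => ?_
      rw [mem_bot, mul_inv_eq_one, mul_inv_eq_iff_eq_mul])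
  rwa [inf_relIndex_left, inf_relIndex_left] at key

/-- **`(NO)` for `Q_a` on `N_u`, `a ~ u`.** -/
theorem noP (hML : ML.Final.MLK.{u, u}) : NoP ![Z i, Z j] := by
  rintro _ _ ⟨k, rfl, rfl⟩ A hA hAQ
  obtain ⟨A₀, rfl⟩ : ∃ A₀ : Subgroup G, A = MulAut.conj k • A₀ := ⟨MulAut.conj k⁻¹ • A, by
    rw [conj_inv_conj]⟩
  have hA0 : IsElementaryAbelian 2 A₀ := by
    have h1 := Peel.eab_conj hA k⁻¹
    rwa [inv_conj_conj] at h1
  have hAQ0 : A₀ ≤ o2 (normalizer (Z i : Set G)) := by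
    rw [QQ_conj] at hAQ
    exact (Cfsg.Agent.Omega.NoFF.Basic.conj_le_iff).1 hAQ
  have key := noP0 h p hTI hnl hML hA0 hAQ0
  rw [NN_conj]
  have e1 : centralizer ((MulAut.conj k • NN ![Z i, Z j] (![Z i, Z j] 1) : Subgroup G) : Set G) =
      MulAut.conj k • centralizer (NN ![Z i, Z j] (![Z i, Z j] 1) : Set G) :=
    (cj_centralizer k _).symm
  have e2 : centralizer ((MulAut.conj k • A₀ : Subgroup G) : Set G) = MulAut.conj k • centralizer (A₀ : Set G) :=
    (cj_centralizer k _).symm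
  rw [e1, e2, relIndex_pointwise_smul, relIndex_pointwise_smul]
  exact key

/-- **`(NO)` for the elementary abelian subgroups of `Q_j ∩ C(W i)` on `⟨Z_j ^ C(W i)⟩`.** -/
theorem noZV (hML : ML.Final.MLK.{u, u}) {A : Subgroup G} (hA2 : IsElementaryAbelian 2 A)
    (hAQ : A ≤ o2 (normalizer (Z j : Set G))) (hAW : A ≤ centralizer (W i : Set G)) :
    Peel.Nob (ExG.ZV ![Z i, Z j] ![W i, W j]) A := by
  have PP' := h.toPP p hTI hnl
  have hTIj : TI (Z j) := TI_j h p hTI
  set Z' : Fin 2 → Subgroup G := ![Z i, Z j] with hZ'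
  have hA : Adj Z' (Z i) (Z j) := ⟨1, by rw [map_one, one_smul]; rfl, by rw [map_one, one_smul]; rfl⟩
  set X : Subgroup G := ExG.ZV Z' ![W i, W j] with hX
  have hX' : X = NoFF.Basic.V (Z j) (centralizer (W i : Set G)) := rfl
  set T : Subgroup G := (S : Subgroup G) ⊓ normalizer (Z i : Set G) with hT
  have hTW : T ≤ normalizer (W i : Set G) := by rw [hT, h.inf_normalizer i]; exact inf_le_right
  have hTj : T ≤ normalizer (Z j : Set G) := (h.T_le p).trans inf_le_right
  set H : Subgroup G := centralizer (W i : Set G) ⊔ T with hH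
  have hcW : centralizer (W i : Set G) ≤ normalizer (Z i : Set G) :=
    (centralizer_le (h.fr.blk i).ZV).trans (centralizer_le_normalizer _)
  have hHZ : H ≤ normalizer (Z i : Set G) := sup_le hcW inf_le_right
  have hHW : H ≤ normalizer (W i : Set G) := sup_le (centralizer_le_normalizer _) hTW
  have hTH : T ≤ H := le_sup_right
  obtain ⟨z, hz, hz1, hzT⟩ := exists_fixed (S.isPGroup'.to_le inf_le_left) (h.Z_two j) (h.Z_ne j) hTj
  have hcX : centralizer (W i : Set G) ≤ normalizer (X : Set G) := ExG.le_normalizer_V' _ _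
  have hXN : X ≤ NN Z' (Z i) := by
    refine V_le fun c hc => Adj.le_NN ?_
    have h1 := hA.conj c
    rwa [show MulAut.conj c • Z i = Z i from mem_normalizer_iff_cj.1 (hcW hc)] at h1
  have hjX : Z j ≤ X := ExG.le_V' _ _
  have hbot : normalizer ((⊥ : Subgroup G) : Set G) = ⊤ := normalizer_eq_top _
  have hKH : H ≠ ⊤ := fun e => ne_top' h hnl (top_le_iff.1 (e ▸ hHZ))
  have key := hML.grp (h.hyp.ctx.kproper _ hKH)
    (C := H) (W := X) (Y := ⊥)
    (T := T) (Q := o2 (normalizer (Z j : Set G)) ⊓ centralizer (W i : Set G)) (A := A) (w := z)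
    { nW := by
        refine sup_le hcX fun t ht => mem_normalizer_iff_cj.2 ?_
        exact ExG.conj_ZV (Z := Z') (U := ![W i, W j]) (hTj ht) (hTW ht)
      nY := by rw [hbot]; exact le_top
      YW := bot_le
      WY := by rw [hbot]; exact le_top
      sq := fun x hx => by rw [← pow_two, NN_sq h p hTI hnl hA.pt x (hXN hx)]; exact one_mem _
      mem := hjX hz
      gen := by
        intro Y hzY _ hCY
        have hjY : Z j ≤ Y := fun x hx => by
          by_cases hx1 : x = 1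
          · rw [hx1]; exact one_mem _
          obtain ⟨g, -, hgC, -, e⟩ := tr_pt h j hz hz1 hx hx1
          have h1 : g ∈ H := (le_sup_left : _ ≤ H) (centralizer_le (h.fr.WjC j i p.ne.symm) hgC)
          rw [← e]
          exact (mem_normalizer_iff.1 (hCY h1) z).1 hzY
        refine V_le fun c hc => ?_
        have h4 := cj_mono c hjY
        rwa [cj_eq_of_mem_normalizer (hCY ((le_sup_left : _ ≤ H) hc))] at h4
      TC := hTH
      two := S.isPGroup'.to_le inf_le_left
      odd := syl_not_dvd (h.syl_of_le i hTH hHZ)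
      fixT := fun t ht => by
        rw [hzT t ht, mul_inv_cancel]
        exact one_mem _
      QC := inf_le_right.trans le_sup_left
      Q2 := (MinSimple.VModule.o2_isPGroup _).to_le inf_le_left
      fixQ := fun q hq => by
        have h1 := mem_centralizer_iff.1 (h.o2_cent j hq.1) z hz
        rw [← h1, mul_inv_cancel_right, mul_inv_cancel]
        exact one_mem _
      nrmQ := fun g hgH hg q hq => by
        have h1 : g * z * g⁻¹ = z := mul_inv_eq_one.1 (mem_bot.1 hg)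
        have h2 : g ∈ normalizer (Z j : Set G) := ti_mem hTIj hz hz1 (h1.symm ▸ hz)
        refine ⟨(mem_normalizer_iff.1 (MinSimple.VModule.le_normalizer_o2 _ h2) q).1 hq.1, ?_⟩
        have h3 : cj g (centralizer (W i : Set G)) = centralizer (W i : Set G) := by
          rw [cj_centralizer, cj_eq_of_mem_normalizer (hHW hgH)]
        rw [← h3]
        exact ⟨q, hq.2, rfl⟩
      AQ := le_inf hAQ hAW
      Asq := fun a ha x hx => by
        have h1 : a ^ 2 = 1 := hA2.2 a ha
        have e : a * (a * x * a⁻¹) * a⁻¹ * x⁻¹ = (a ^ 2) * x * (a ^ 2)⁻¹ * x⁻¹ := by simp [pow_two, mul_assoc]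
        rw [e, h1]
        simp }
    (KA := A ⊓ centralizer (X : Set G)) (CW := X ⊓ centralizer (A : Set G))
    (fun a => by
      rw [mem_inf, mem_centralizer_iff]
      refine and_congr_right fun _ => forall₂_congr fun x _ => ?_
      rw [mem_bot, mul_inv_eq_one, mul_inv_eq_iff_eq_mul]
      exact eq_comm)
    (fun x => by
      rw [mem_inf, mem_centralizer_iff]
      refine and_congr_right fun _ => forall₂_congr fun a _ => ?_
      rw [mem_bot, mul_inv_eq_one, mul_inv_eq_iff_eq_mul])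
  rwa [inf_relIndex_left, inf_relIndex_left] at key

/-- `O₂(H_j / C(N_j)) = 1` -/
theorem core_sq' {J : Subgroup G} (hJ : J ≤ normalizer (Z j : Set G))
    (hn : normalizer (Z j : Set G) ≤ normalizer (J : Set G))
    (hsq : ∀ y ∈ J, y ^ 2 ∈ centralizer (NN ![Z i, Z j] (Z j) : Set G)) :
    J ≤ centralizer (NN ![Z i, Z j] (Z j) : Set G) := by
  have e0 : cj s (Z i) = Z j := h.cj_s_Z p
  have e1 : cj s⁻¹ (Z j) = Z i := by rw [← e0, cj_inv_cj]
  have hc : cj s⁻¹ (centralizer (NN ![Z i, Z j] (Z j) : Set G)) = centralizer (NN ![Z i, Z j] (Z i) : Set G) := by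
    rw [cj_centralizer]
    have h1 : cj s⁻¹ (NN ![Z i, Z j] (Z j)) = NN ![Z i, Z j] (cj s⁻¹ (Z j)) := (NN_conj s⁻¹ (Z j)).symm
    rw [h1, e1]
  have hni : cj s⁻¹ (normalizer (Z j : Set G)) = normalizer (Z i : Set G) := by rw [cj_normalizer, e1]
  have h2 : cj s⁻¹ J ≤ centralizer (NN ![Z i, Z j] (Z i) : Set G) := by
    refine h.core_sq p (J := cj s⁻¹ J) ?_ ?_ ?_
    · rw [← hni]; exact cj_mono _ hJ
    · rw [← hni, ← cj_normalizer]; exact cj_mono _ hn
    · rintro _ ⟨y, hy, rfl⟩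
      rw [← hc]
      refine ⟨y ^ 2, hsq y hy, ?_⟩
      change s⁻¹ * y ^ 2 * s⁻¹⁻¹ = s⁻¹ * y * s⁻¹⁻¹ * (s⁻¹ * y * s⁻¹⁻¹)
      rw [pow_two]; group
  rw [← hc] at h2
  have h3 := cj_mono s h2
  rwa [cj_cj, cj_cj, mul_inv_cancel, cj_one, cj_one] at h3

/-- **The input of `ExG` over the frame.** -/
theorem in_of (hML : ML.Final.MLK.{u, u})
    (gen : normalizer (Z j : Set G) ≤ (normalizer (Z j : Set G) ⊓ normalizer (W i : Set G)) ⊔
      (normalizer (Z j : Set G) ⊓ normalizer (Z i : Set G))) : ExG.In ![Z i, Z j] ![W i, W j] where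
  toPP := h.toPP p hTI hnl
  cen0 := h.o2_cent i
  U01 := U_le_NN h p hTI hnl
  gen := gen
  core := fun _ hJ hn hsq => core_sq' h p hTI hnl hJ hn hsq
  noP := noP h p hTI hnl hML
  noH := fun _ hA hAQ hAW => noZV h p hTI hnl hML hA hAQ hAW

/-- **The exact group of THEOREM KLQ (1) = 997's `B_e`**, all `d`, all `q`. -/
theorem exists_ex (hML : ML.Final.MLK.{u, u})
    (gen : normalizer (Z j : Set G) ≤ (normalizer (Z j : Set G) ⊓ normalizer (W i : Set G)) ⊔
      (normalizer (Z j : Set G) ⊓ normalizer (Z i : Set G))) : ExG.In.Goal ![Z i, Z j] ![W i, W j] :=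
  (in_of h p hTI hnl hML gen).exists_ex

end two

end Cfsg.Agent.Omega.KL.Q.ExBg
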